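-- helper63: API for the upper p-series `Cfsg.upperPSeries` and p-length `Cfsg.PLengthLE`.
import Mathlib
import Cfsg.Prelude.Def_Local
import Cfsg.Agent.Lib.Helper23.Cores

set_option autoImplicit false

namespace Cfsg.Agent.Lib.Helper63.PLength

open Cfsg

/-- Numerical form of the condition on the `i`-th factor of a `p`-series: prime to `p` at even
positions, a power of `p` at odd positions. -/
def StepCard (p i r : ℕ) : Prop := if Even i then r.Coprime p else ∃ k : ℕ, r = p ^ k

theorem stepCard_even {p i r : ℕ} (h : Even i) : StepCard p i r ↔ r.Coprime p := by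
  unfold StepCard; rw [if_pos h]

theorem stepCard_odd {p i r : ℕ} (h : ¬ Even i) : StepCard p i r ↔ ∃ k : ℕ, r = p ^ k := by
  unfold StepCard; rw [if_neg h]

theorem stepCard_one (p i : ℕ) : StepCard p i 1 := by
  by_cases h : Even i
  · rw [stepCard_even h]; exact Nat.coprime_one_left p
  · rw [stepCard_odd h]; exact ⟨0, (pow_zero p).symm⟩

theorem StepCard.of_dvd {p i r d : ℕ} [Fact p.Prime] (h : StepCard p i r) (hd : d ∣ r) :
    StepCard p i d := by
  by_cases hi : Even i
  · rw [stepCard_even hi] at h ⊢; exact Nat.Coprime.coprime_dvd_left hd h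
  · rw [stepCard_odd hi] at h ⊢
    obtain ⟨k, rfl⟩ := h
    obtain ⟨j, -, rfl⟩ := (Nat.dvd_prime_pow Fact.out).1 hd
    exact ⟨j, rfl⟩

theorem StepCard.mul {p i r s : ℕ} (h : StepCard p i r) (h' : StepCard p i s) :
    StepCard p i (r * s) := by
  by_cases hi : Even i
  · rw [stepCard_even hi] at *; exact Nat.Coprime.mul_left h h'
  · rw [stepCard_odd hi] at *
    obtain ⟨k, rfl⟩ := h
    obtain ⟨j, rfl⟩ := h'
    exact ⟨k + j, (pow_add p k j).symm⟩

theorem stepCard_congr {p i j r : ℕ} (h : Even i ↔ Even j) : StepCard p i r ↔ StepCard p j r := by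
  unfold StepCard
  by_cases hi : Even i
  · rw [if_pos hi, if_pos (h.1 hi)]
  · rw [if_neg hi, if_neg (fun hj => hi (h.2 hj))]

theorem even_add_two_mul (j m : ℕ) : Even (j + 2 * m) ↔ Even j := by
  rw [Nat.even_add]
  simp

/-- The core taken at step `n` of the upper `p`-series. -/
def stepCore (p n : ℕ) (X : Type*) [Group X] : Subgroup X :=
  if Even n then pPrimeCore p X else pCore p X

theorem stepCore_normal (p n : ℕ) (X : Type*) [Group X] : (stepCore p n X).Normal := by
  unfold stepCore; split_ifs <;> infer_instance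

theorem card_stepCore (p n : ℕ) (X : Type*) [Group X] [Finite X] [Fact p.Prime] :
    StepCard p n (Nat.card (stepCore p n X)) := by
  unfold stepCore StepCard
  split_ifs with h
  · exact Cfsg.Agent.Lib.Helper23.Cores.pPrimeCore_card_coprime p
  · exact IsPGroup.iff_card.1 (Cfsg.Agent.Lib.Helper23.Cores.pCore_isPGroup p)

theorem le_stepCore (p n : ℕ) {X : Type*} [Group X] (N : Subgroup X) (hN : N.Normal)
    (h : StepCard p n (Nat.card N)) : N ≤ stepCore p n X := by
  unfold stepCore
  unfold StepCard at h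
  split_ifs with hn
  · rw [if_pos hn] at h
    exact Cfsg.Agent.Lib.Helper23.Cores.le_pPrimeCore p N hN h
  · rw [if_neg hn] at h
    obtain ⟨k, hk⟩ := h
    exact Cfsg.Agent.Lib.Helper23.Cores.le_pCore p N hN (IsPGroup.of_card hk)

theorem upperPSeries_zero (p : ℕ) (G : Type*) [Group G] : (upperPSeries p G 0).1 = ⊥ := rfl

theorem upperPSeries_succ (p : ℕ) (G : Type*) [Group G] (n : ℕ) :
    (upperPSeries p G (n + 1)).1 =
      (stepCore p n (G ⧸ (upperPSeries p G n).1)).comap
        (QuotientGroup.mk' (upperPSeries p G n).1) := by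
  have h : upperPSeries p G (n + 1) = (if Even n then
      ⟨(pPrimeCore p (G ⧸ (upperPSeries p G n).1)).comap (QuotientGroup.mk' _), inferInstance⟩
    else
      ⟨(pCore p (G ⧸ (upperPSeries p G n).1)).comap (QuotientGroup.mk' _), inferInstance⟩) := rfl
  rw [h]
  unfold stepCore
  split_ifs <;> rfl

variable {G : Type*} [Group G]

theorem upperPSeries_le_succ (p : ℕ) (G : Type*) [Group G] (n : ℕ) :
    (upperPSeries p G n).1 ≤ (upperPSeries p G (n + 1)).1 := by
  rw [upperPSeries_succ]
  intro x hx
  rw [Subgroup.mem_comap]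
  have h1 : QuotientGroup.mk' (upperPSeries p G n).1 x = 1 := by
    rw [QuotientGroup.mk'_apply, QuotientGroup.eq_one_iff]; exact hx
  rw [h1]; exact Subgroup.one_mem _

theorem upperPSeries_mono (p : ℕ) (G : Type*) [Group G] {n m : ℕ} (h : n ≤ m) :
    (upperPSeries p G n).1 ≤ (upperPSeries p G m).1 := by
  induction m with
  | zero =>
    have : n = 0 := by omega
    rw [this]
  | succ m ih =>
    rcases Nat.lt_or_ge n (m + 1) with h1 | h1
    · exact (ih (by omega)).trans (upperPSeries_le_succ p G m)
    · have : n = m + 1 := by omega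
      rw [this]

/-- For a normal subgroup `A`, the relative index `[K : K ∩ A]` is the order of the image of `K` in
`G ⧸ A`. -/
theorem relIndex_eq_card_map (A K : Subgroup G) [A.Normal] :
    A.relIndex K = Nat.card (K.map (QuotientGroup.mk' A)) := by
  calc A.relIndex K
      = ((⊥ : Subgroup (G ⧸ A)).comap (QuotientGroup.mk' A)).relIndex K := by
        rw [MonoidHom.comap_bot, QuotientGroup.ker_mk']
    _ = (⊥ : Subgroup (G ⧸ A)).relIndex (K.map (QuotientGroup.mk' A)) :=
        Subgroup.relIndex_comap _ _ _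
    _ = Nat.card (K.map (QuotientGroup.mk' A)) := Subgroup.relIndex_bot_left _

theorem relIndex_upperPSeries (p : ℕ) (G : Type*) [Group G] [Finite G] [Fact p.Prime] (n : ℕ) :
    StepCard p n ((upperPSeries p G n).1.relIndex (upperPSeries p G (n + 1)).1) := by
  rw [upperPSeries_succ, relIndex_eq_card_map,
    Subgroup.map_comap_eq_self_of_surjective (QuotientGroup.mk'_surjective _)]
  exact card_stepCore p n _

/-- A `p`-series: an ascending sequence of normal subgroups starting at `⊥` whose successive
relative indices are prime to `p` at even positions and powers of `p` at odd positions. -/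
def IsPSeries (p : ℕ) (V : ℕ → Subgroup G) : Prop :=
  V 0 = ⊥ ∧ (∀ i, (V i).Normal) ∧ (∀ i, V i ≤ V (i + 1)) ∧
    ∀ i, StepCard p i ((V i).relIndex (V (i + 1)))

theorem isPSeries_upper (p : ℕ) (G : Type*) [Group G] [Finite G] [Fact p.Prime] :
    IsPSeries p (fun n => (upperPSeries p G n).1) :=
  ⟨upperPSeries_zero p G, fun i => (upperPSeries p G i).2, upperPSeries_le_succ p G,
    relIndex_upperPSeries p G⟩

/-- The upper `p`-series dominates every `p`-series. -/
theorem IsPSeries.le_upper {p : ℕ} [Finite G] [Fact p.Prime] {V : ℕ → Subgroup G}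
    (h : IsPSeries p V) (n : ℕ) : V n ≤ (upperPSeries p G n).1 := by
  obtain ⟨h0, hn, hm, hs⟩ := h
  induction n with
  | zero => rw [h0]; exact bot_le
  | succ n ih =>
    rw [upperPSeries_succ, ← Subgroup.map_le_iff_le_comap]
    apply le_stepCore p n _ ((hn (n + 1)).map _ (QuotientGroup.mk'_surjective _))
    rw [← relIndex_eq_card_map]
    exact (hs n).of_dvd (Subgroup.relIndex_dvd_of_le_left _ ih)

theorem upper_eq_top_iff (p : ℕ) (G : Type*) [Group G] [Finite G] [Fact p.Prime] (m : ℕ) :
    (upperPSeries p G m).1 = ⊤ ↔ ∃ V : ℕ → Subgroup G, IsPSeries p V ∧ V m = ⊤ := by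
  constructor
  · intro h
    exact ⟨_, isPSeries_upper p G, h⟩
  · rintro ⟨V, hV, hm⟩
    exact top_le_iff.1 (hm ▸ hV.le_upper m)

theorem pLengthLE_iff (p : ℕ) (G : Type*) [Group G] [Finite G] [Fact p.Prime] (k : ℕ) :
    PLengthLE p k G ↔ ∃ V : ℕ → Subgroup G, IsPSeries p V ∧ V (2 * k + 1) = ⊤ :=
  upper_eq_top_iff p G (2 * k + 1)

/-- The image of a `p`-series under a surjective homomorphism is a `p`-series. -/
theorem IsPSeries.map {p : ℕ} [Fact p.Prime] {H : Type*} [Group H] [Finite G]
    {V : ℕ → Subgroup G} (h : IsPSeries p V) (f : G →* H) (hf : Function.Surjective f) :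
    IsPSeries p (fun i => (V i).map f) := by
  obtain ⟨h0, hn, hm, hs⟩ := h
  refine ⟨by simp only [h0, Subgroup.map_bot], fun i => (hn i).map f hf,
    fun i => Subgroup.map_mono (hm i), fun i => ?_⟩
  show StepCard p i (((V i).map f).relIndex ((V (i + 1)).map f))
  rw [Subgroup.relIndex_map_map]
  have hN : (V i ⊔ f.ker).Normal := by
    have := hn i
    infer_instance
  have h1 : V (i + 1) ⊔ f.ker = V (i + 1) ⊔ (V i ⊔ f.ker) := by
    rw [← sup_assoc, sup_eq_left.2 (hm i)]
  rw [h1, Subgroup.relIndex_sup_right]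
  exact (hs i).of_dvd (Subgroup.relIndex_dvd_of_le_left _ le_sup_left)

/-- The trace of a `p`-series on a subgroup is a `p`-series. -/
theorem IsPSeries.subgroupOf {p : ℕ} [Fact p.Prime] [Finite G]
    {V : ℕ → Subgroup G} (h : IsPSeries p V) (K : Subgroup G) :
    IsPSeries p (fun i => (V i).subgroupOf K) := by
  obtain ⟨h0, hn, hm, hs⟩ := h
  refine ⟨by simp only [h0, Subgroup.bot_subgroupOf], fun i => (hn i).subgroupOf K,
    fun i => Subgroup.comap_mono (hm i), fun i => ?_⟩
  show StepCard p i (((V i).subgroupOf K).relIndex ((V (i + 1)).subgroupOf K))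
  rw [← Subgroup.inf_subgroupOf_right (V (i + 1)) K,
    Subgroup.relIndex_subgroupOf (inf_le_right : V (i + 1) ⊓ K ≤ K)]
  have := hn i
  have h1 : (V i).relIndex (V (i + 1) ⊓ K) ∣ (V i).relIndex (V (i + 1)) := by
    rw [relIndex_eq_card_map, relIndex_eq_card_map]
    exact Subgroup.card_dvd_of_le (Subgroup.map_mono inf_le_left)
  exact (hs i).of_dvd h1

theorem PLengthLE.of_surjective {p : ℕ} [Fact p.Prime] {H : Type*} [Group H] [Finite G] [Finite H]
    {k : ℕ} (h : PLengthLE p k G) (f : G →* H) (hf : Function.Surjective f) :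
    PLengthLE p k H := by
  rw [pLengthLE_iff] at h ⊢
  obtain ⟨V, hV, hk⟩ := h
  refine ⟨_, hV.map f hf, ?_⟩
  show (V (2 * k + 1)).map f = ⊤
  rw [hk, Subgroup.map_top_of_surjective f hf]

theorem upper_eq_top_of_surjective {p : ℕ} [Fact p.Prime] {H : Type*} [Group H] [Finite G]
    [Finite H] {m : ℕ} (h : (upperPSeries p G m).1 = ⊤) (f : G →* H)
    (hf : Function.Surjective f) : (upperPSeries p H m).1 = ⊤ := by
  rw [upper_eq_top_iff] at h ⊢
  obtain ⟨V, hV, hk⟩ := h
  refine ⟨_, hV.map f hf, ?_⟩
  show (V m).map f = ⊤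
  rw [hk, Subgroup.map_top_of_surjective f hf]

theorem PLengthLE.subgroup {p : ℕ} [Fact p.Prime] [Finite G] {k : ℕ} (h : PLengthLE p k G)
    (K : Subgroup G) : PLengthLE p k K := by
  rw [pLengthLE_iff] at h ⊢
  obtain ⟨V, hV, hk⟩ := h
  refine ⟨_, hV.subgroupOf K, ?_⟩
  show (V (2 * k + 1)).subgroupOf K = ⊤
  rw [hk, Subgroup.top_subgroupOf]

theorem PLengthLE.mono {p : ℕ} {k k' : ℕ} (h : PLengthLE p k G) (hk : k ≤ k') :
    PLengthLE p k' G := by
  unfold PLengthLE at h ⊢
  exact top_le_iff.1 (h ▸ upperPSeries_mono p G (by omega))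

/-- A group of order prime to `p` has `p`-length `0`. -/
theorem pLengthLE_zero_of_coprime {p : ℕ} [Fact p.Prime] [Finite G]
    (h : (Nat.card G).Coprime p) : PLengthLE p 0 G := by
  rw [pLengthLE_iff]
  refine ⟨fun i => if i = 0 then ⊥ else ⊤, ⟨by simp, fun i => ?_, fun i => ?_, fun i => ?_⟩,
    by simp⟩
  · by_cases hi : i = 0 <;> simp only [hi, if_true, if_false] <;> infer_instance
  · by_cases hi : i = 0 <;> simp [hi]
  · by_cases hi : i = 0
    · subst hi
      simp only [if_true, zero_add, one_ne_zero, if_false]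
      rw [Subgroup.relIndex_bot_left, Subgroup.card_top, stepCard_even (by decide)]
      exact h
    · simp only [hi, if_false, Nat.succ_ne_zero]
      rw [Subgroup.relIndex_self]; exact stepCard_one p i

/-- A finite `p`-group has `p`-length at most `1`. -/
theorem pLengthLE_one_of_card {p : ℕ} [Fact p.Prime] [Finite G] {n : ℕ}
    (h : Nat.card G = p ^ n) : PLengthLE p 1 G := by
  rw [pLengthLE_iff]
  refine ⟨fun i => if i ≤ 1 then ⊥ else ⊤, ⟨by simp, fun i => ?_, fun i => ?_, fun i => ?_⟩,
    by simp⟩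
  · by_cases hi : i ≤ 1 <;> simp only [hi, if_true, if_false] <;> infer_instance
  · by_cases hi : i ≤ 1
    · simp [hi]
    · have hi' : ¬ (i + 1 ≤ 1) := by omega
      simp [hi, hi']
  · rcases Nat.lt_trichotomy i 1 with hi | hi | hi
    · have hi0 : i = 0 := by omega
      subst hi0
      simp only [zero_le, if_true, zero_add, le_refl]
      rw [Subgroup.relIndex_self]; exact stepCard_one p 0
    · subst hi
      simp only [le_refl, if_true, show ¬ (1 + 1 ≤ 1) by omega, if_false]
      rw [Subgroup.relIndex_bot_left, Subgroup.card_top, stepCard_odd (by decide)]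
      exact ⟨n, h⟩
    · simp only [show ¬ (i ≤ 1) by omega, show ¬ (i + 1 ≤ 1) by omega, if_false]
      rw [Subgroup.relIndex_self]; exact stepCard_one p i

/-- The terms of the upper `p`-series are characteristic subgroups. -/
theorem upperPSeries_characteristic (p : ℕ) (G : Type*) [Group G] [Finite G] [Fact p.Prime]
    (n : ℕ) : ((upperPSeries p G n).1).Characteristic := by
  rw [Subgroup.characteristic_iff_map_le]
  intro ϕ
  exact ((isPSeries_upper p G).map ϕ.toMonoidHom ϕ.surjective).le_upper n

/-- Subadditivity of `p`-length over a normal subgroup. -/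
theorem pLengthLE_add {p : ℕ} [Fact p.Prime] [Finite G] (N : Subgroup G) [hN : N.Normal]
    {a b : ℕ} (ha : PLengthLE p a N) (hb : PLengthLE p b (G ⧸ N)) : PLengthLE p (a + b) G := by
  rw [pLengthLE_iff]
  obtain ⟨W, hW1, hW2⟩ : ∃ W : ℕ → Subgroup G,
      (∀ i, i ≤ 2 * a → W i = ((upperPSeries p N i).1).map N.subtype) ∧
      (∀ i, ¬ i ≤ 2 * a →
        W i = ((upperPSeries p (G ⧸ N) (i - 2 * a)).1).comap (QuotientGroup.mk' N)) :=
    ⟨fun i => if i ≤ 2 * a then ((upperPSeries p N i).1).map N.subtype
      else ((upperPSeries p (G ⧸ N) (i - 2 * a)).1).comap (QuotientGroup.mk' N),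
      fun i hi => if_pos hi, fun i hi => if_neg hi⟩
  have hNle : ∀ X : Subgroup (G ⧸ N), N ≤ X.comap (QuotientGroup.mk' N) := by
    intro X x hx
    rw [Subgroup.mem_comap]
    have h1 : QuotientGroup.mk' N x = 1 := by
      rw [QuotientGroup.mk'_apply, QuotientGroup.eq_one_iff]; exact hx
    rw [h1]; exact X.one_mem
  refine ⟨W, ⟨?_, ?_, ?_, ?_⟩, ?_⟩
  · rw [hW1 0 (Nat.zero_le _), upperPSeries_zero, Subgroup.map_bot]
  · intro i
    by_cases hi : i ≤ 2 * a
    · rw [hW1 i hi]
      have := upperPSeries_characteristic p N i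
      infer_instance
    · rw [hW2 i hi]
      exact ((upperPSeries p (G ⧸ N) (i - 2 * a)).2).comap _
  · intro i
    by_cases hi : i + 1 ≤ 2 * a
    · rw [hW1 i (by omega), hW1 (i + 1) hi]
      exact Subgroup.map_mono (upperPSeries_le_succ p N i)
    · by_cases hi' : i ≤ 2 * a
      · rw [hW1 i hi', hW2 (i + 1) hi]
        exact (Subgroup.map_subtype_le _).trans (hNle _)
      · rw [hW2 i hi', hW2 (i + 1) hi]
        have e : i + 1 - 2 * a = (i - 2 * a) + 1 := by omega
        rw [e]
        exact Subgroup.comap_mono (upperPSeries_le_succ p (G ⧸ N) _)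
  · intro i
    by_cases hi : i + 1 ≤ 2 * a
    · rw [hW1 i (by omega), hW1 (i + 1) hi,
        Subgroup.relIndex_map_map_of_injective _ _ N.subtype_injective]
      exact relIndex_upperPSeries p N i
    · by_cases hi' : i ≤ 2 * a
      · have hia : i = 2 * a := by omega
        rw [hW1 i hi', hW2 (i + 1) hi]
        have e1 : i + 1 - 2 * a = 1 := by omega
        rw [e1]
        have h1 := Subgroup.relIndex_mul_relIndex (((upperPSeries p N i).1).map N.subtype) N
          (((upperPSeries p (G ⧸ N) 1).1).comap (QuotientGroup.mk' N))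
          (Subgroup.map_subtype_le _) (hNle _)
        rw [← h1]
        apply StepCard.mul
        · have h2 := Subgroup.relIndex_map_map_of_injective (upperPSeries p N i).1 ⊤
            N.subtype_injective
          rw [← MonoidHom.range_eq_map, Subgroup.range_subtype] at h2
          rw [h2]
          have h3 := relIndex_upperPSeries p N i
          have h4 : (upperPSeries p N (i + 1)).1 = ⊤ := by rw [hia]; exact ha
          rw [h4] at h3
          exact h3
        · rw [relIndex_eq_card_map,
            Subgroup.map_comap_eq_self_of_surjective (QuotientGroup.mk'_surjective N)]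
          have h3 := relIndex_upperPSeries p (G ⧸ N) 0
          rw [upperPSeries_zero, Subgroup.relIndex_bot_left] at h3
          exact (stepCard_congr (by rw [hia]; simp)).2 h3
      · rw [hW2 i hi', hW2 (i + 1) hi]
        have e1 : i + 1 - 2 * a = (i - 2 * a) + 1 := by omega
        rw [e1, Subgroup.relIndex_comap,
          Subgroup.map_comap_eq_self_of_surjective (QuotientGroup.mk'_surjective N)]
        have h3 := relIndex_upperPSeries p (G ⧸ N) (i - 2 * a)
        have e2 : i = (i - 2 * a) + 2 * a := by omega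
        exact (stepCard_congr (by rw [e2, even_add_two_mul]; simp)).2 h3
  · have h1 : ¬ (2 * (a + b) + 1 ≤ 2 * a) := by omega
    rw [hW2 _ h1]
    have e : 2 * (a + b) + 1 - 2 * a = 2 * b + 1 := by omega
    have hb' : (upperPSeries p (G ⧸ N) (2 * b + 1)).1 = ⊤ := hb
    rw [e, hb', Subgroup.comap_top]

/-- Passing to the quotient by the `2m`-th term of the upper `p`-series lowers the `p`-length by
`m`. -/
theorem PLengthLE.quotient_upper {p : ℕ} [Fact p.Prime] [Finite G] {k : ℕ} (m : ℕ)
    (h : PLengthLE p (k + m) G) : PLengthLE p k (G ⧸ (upperPSeries p G (2 * m)).1) := by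
  rw [pLengthLE_iff]
  refine ⟨fun j => ((upperPSeries p G (j + 2 * m)).1).map
    (QuotientGroup.mk' (upperPSeries p G (2 * m)).1), ⟨?_, ?_, ?_, ?_⟩, ?_⟩
  · show ((upperPSeries p G (0 + 2 * m)).1).map _ = ⊥
    rw [zero_add]; exact QuotientGroup.map_mk'_self _
  · intro j
    exact ((upperPSeries p G (j + 2 * m)).2).map _ (QuotientGroup.mk'_surjective _)
  · intro j
    show ((upperPSeries p G (j + 2 * m)).1).map _ ≤ ((upperPSeries p G (j + 1 + 2 * m)).1).map _
    have e : j + 1 + 2 * m = (j + 2 * m) + 1 := by omega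
    rw [e]; exact Subgroup.map_mono (upperPSeries_le_succ p G _)
  · intro j
    show StepCard p j ((((upperPSeries p G (j + 2 * m)).1).map
      (QuotientGroup.mk' (upperPSeries p G (2 * m)).1)).relIndex
      (((upperPSeries p G (j + 1 + 2 * m)).1).map
      (QuotientGroup.mk' (upperPSeries p G (2 * m)).1)))
    have e : j + 1 + 2 * m = (j + 2 * m) + 1 := by omega
    rw [e, Subgroup.relIndex_map_map, QuotientGroup.ker_mk']
    have h1 : (upperPSeries p G (2 * m)).1 ≤ (upperPSeries p G (j + 2 * m)).1 :=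
      upperPSeries_mono p G (by omega)
    have h2 : (upperPSeries p G (2 * m)).1 ≤ (upperPSeries p G (j + 2 * m + 1)).1 :=
      upperPSeries_mono p G (by omega)
    rw [sup_eq_left.2 h1, sup_eq_left.2 h2]
    exact (stepCard_congr (even_add_two_mul j m)).1 (relIndex_upperPSeries p G (j + 2 * m))
  · show ((upperPSeries p G (2 * k + 1 + 2 * m)).1).map _ = ⊤
    have e : 2 * k + 1 + 2 * m = 2 * (k + m) + 1 := by ring
    have h' : (upperPSeries p G (2 * (k + m) + 1)).1 = ⊤ := h
    rw [e, h', Subgroup.map_top_of_surjective _ (QuotientGroup.mk'_surjective _)]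

theorem comap_stepCore_congr (p : ℕ) {A B : Subgroup G} [hA : A.Normal] [hB : B.Normal]
    (h : A = B) {n m : ℕ} (hnm : Even n ↔ Even m) :
    (stepCore p n (G ⧸ A)).comap (QuotientGroup.mk' A) =
      (stepCore p m (G ⧸ B)).comap (QuotientGroup.mk' B) := by
  subst h
  have h1 : stepCore p n (G ⧸ A) = stepCore p m (G ⧸ A) := by
    unfold stepCore
    by_cases hn : Even n
    · rw [if_pos hn, if_pos (hnm.1 hn)]
    · rw [if_neg hn, if_neg (fun hm => hn (hnm.2 hm))]
  rw [h1]

/-- If the second term of the upper `p`-series is trivial, the series has period two. -/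
theorem upperPSeries_add_two_of_two_eq_bot (p : ℕ) (G : Type*) [Group G]
    (h2 : (upperPSeries p G 2).1 = ⊥) (n : ℕ) :
    (upperPSeries p G (n + 2)).1 = (upperPSeries p G n).1 := by
  induction n with
  | zero => rw [zero_add, h2]; rfl
  | succ n ih =>
    have e : n + 1 + 2 = (n + 2) + 1 := by omega
    rw [e, upperPSeries_succ p G (n + 2), upperPSeries_succ p G n]
    exact comap_stepCore_congr p ih (by rw [Nat.even_add]; simp)

/-- If `O_{p'}(G) = O_{p',p}(G) = 1` and `G` has finite `p`-length then `G` is trivial. -/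
theorem subsingleton_of_two_eq_bot {p k : ℕ} (h2 : (upperPSeries p G 2).1 = ⊥)
    (h : PLengthLE p k G) : Subsingleton G := by
  have h1 : ∀ j, (upperPSeries p G (2 * j + 1)).1 = (upperPSeries p G 1).1 := by
    intro j
    induction j with
    | zero => rfl
    | succ j ih =>
      have e : 2 * (j + 1) + 1 = (2 * j + 1) + 2 := by ring
      rw [e, upperPSeries_add_two_of_two_eq_bot p G h2, ih]
  have h3 : (upperPSeries p G 1).1 = ⊤ := by rw [← h1 k]; exact h
  have h4 : (upperPSeries p G 1).1 ≤ (upperPSeries p G 2).1 := upperPSeries_le_succ p G 1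
  rw [h3, h2] at h4
  refine ⟨fun a b => ?_⟩
  have ha := h4 (Subgroup.mem_top a)
  have hb := h4 (Subgroup.mem_top b)
  rw [Subgroup.mem_bot] at ha hb
  rw [ha, hb]

/-- `O_{p'}(G)` (the first term of the upper `p`-series) has order prime to `p`. -/
theorem card_upper_one_coprime (p : ℕ) (G : Type*) [Group G] [Finite G] [Fact p.Prime] :
    (Nat.card (upperPSeries p G 1).1).Coprime p := by
  have h := relIndex_upperPSeries p G 0
  rw [upperPSeries_zero, Subgroup.relIndex_bot_left, stepCard_even (by decide)] at h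
  exact h

/-- `O_{p',p}(G)/O_{p'}(G)` has `p`-power order. -/
theorem relIndex_upper_one_two (p : ℕ) (G : Type*) [Group G] [Finite G] [Fact p.Prime] :
    ∃ k : ℕ, (upperPSeries p G 1).1.relIndex (upperPSeries p G 2).1 = p ^ k := by
  have h := relIndex_upperPSeries p G 1
  rw [stepCard_odd (by decide)] at h
  exact h

/-- If `O_{p'}(G) = 1` then the second term `O_{p',p}(G) = O_p(G)` is a `p`-group. -/
theorem isPGroup_upper_two (p : ℕ) (G : Type*) [Group G] [Finite G] [Fact p.Prime]
    (h1 : (upperPSeries p G 1).1 = ⊥) : IsPGroup p (upperPSeries p G 2).1 := by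
  obtain ⟨k, hk⟩ := relIndex_upper_one_two p G
  rw [h1, Subgroup.relIndex_bot_left] at hk
  exact IsPGroup.of_card hk


end Cfsg.Agent.Lib.Helper63.PLength
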