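import Mathlib

/-!
# 2-groups with an abelian automorphism group regular on involutions

Elementary machinery for Higman's theorem on Suzuki 2-groups: a "Hua type" vanishing lemma for
equivariant alternating pairings, and the theorem that the centre of a non-abelian invariant
subgroup is elementary abelian.
-/

set_option autoImplicit false

namespace Cfsg.Agent.Lib.Helper63.Suzuki2

open scoped commutatorElement

variable {P : Type*} [Group P]

/-- The standing hypotheses: `K` is a commutative group of automorphisms in which every element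
is a square, all involutions of `P` are central, and `K` is regular on the involutions. -/
structure Setup (P : Type*) [Group P] (K : Subgroup (MulAut P)) : Prop where
  comm : ∀ k₁ ∈ K, ∀ k₂ ∈ K, k₁ * k₂ = k₂ * k₁
  sq : ∀ k ∈ K, ∃ j ∈ K, j * j = k
  inv_central : ∀ x : P, x * x = 1 → ∀ g : P, g * x = x * g
  reg : ∀ x y : P, x ≠ 1 → x * x = 1 → y ≠ 1 → y * y = 1 → ∃ k ∈ K, k x = y
  free : ∀ k ∈ K, ∀ x : P, x ≠ 1 → x * x = 1 → k x = x → k = 1

lemma inv_eq_self {a : P} (h : a * a = 1) : a⁻¹ = a := inv_eq_of_mul_eq_one_right h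

/-- The Hua type lemma. -/
theorem hua {K : Subgroup (MulAut P)} (hS : Setup P K)
    (H : Subgroup P) (hHK : ∀ k ∈ K, ∀ x ∈ H, k x ∈ H)
    (θ : P → P) (γ : P → P → P)
    (hθI : ∀ x ∈ H, θ x * θ x = 1)
    (hθmul : ∀ x ∈ H, ∀ y ∈ H, θ (x * y) = θ x * θ y)
    (hθK : ∀ k ∈ K, ∀ x ∈ H, θ (k x) = k (θ x))
    (hγI : ∀ x ∈ H, ∀ y ∈ H, γ x y * γ x y = 1)
    (hγl : ∀ x ∈ H, ∀ y ∈ H, ∀ z ∈ H, γ (x * y) z = γ x z * γ y z)
    (hγr : ∀ x ∈ H, ∀ y ∈ H, ∀ z ∈ H, γ x (y * z) = γ x y * γ x z)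
    (hγa : ∀ x ∈ H, γ x x = 1)
    (hγK : ∀ k ∈ K, ∀ x ∈ H, ∀ y ∈ H, γ (k x) (k y) = k (γ x y))
    (hγθ : ∀ x ∈ H, ∀ y ∈ H, θ x = 1 → γ x y = 1) :
    ∀ x ∈ H, ∀ y ∈ H, γ x y = 1 := by
  -- basic facts
  have hθ1 : θ 1 = 1 := by
    have h := hθmul 1 H.one_mem 1 H.one_mem
    rw [mul_one] at h
    exact (left_eq_mul.1 h)
  have hθinv : ∀ x ∈ H, θ x⁻¹ = (θ x)⁻¹ := by
    intro x hx
    have h := hθmul x⁻¹ (H.inv_mem hx) x hx
    rw [inv_mul_cancel, hθ1] at h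
    exact eq_inv_of_mul_eq_one_left h.symm
  have hsym : ∀ x ∈ H, ∀ y ∈ H, γ y x = γ x y := by
    intro x hx y hy
    have h := hγa (x * y) (H.mul_mem hx hy)
    rw [hγl x hx y hy _ (H.mul_mem hx hy), hγr x hx x hx y hy, hγr y hy x hx y hy,
      hγa x hx, hγa y hy, one_mul, mul_one] at h
    have h2 : γ y x = (γ x y)⁻¹ := eq_inv_of_mul_eq_one_right h
    rw [h2, inv_eq_self (hγI x hx y hy)]
  have hγθ' : ∀ x ∈ H, ∀ y ∈ H, θ y = 1 → γ x y = 1 := by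
    intro x hx y hy h
    rw [hsym y hy x hx]
    exact hγθ y hy x hx h
  -- the key claim
  have key : ∀ x0 ∈ H, θ x0 ≠ 1 → ∀ j ∈ K, γ x0 (j x0) = 1 := by
    intro x0 hx0 ht0
    set t0 := θ x0 with ht0def
    have ht0sq : t0 * t0 = 1 := hθI x0 hx0
    have hF2 : ∀ j ∈ K, γ x0 (j⁻¹ x0) = j⁻¹ (γ x0 (j x0)) := by
      intro j hj
      have hj' : j⁻¹ ∈ K := K.inv_mem hj
      rw [hsym _ (hHK _ hj' x0 hx0) x0 hx0]
      have h := hγK j⁻¹ hj' x0 hx0 (j x0) (hHK j hj x0 hx0)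
      rw [MulAut.inv_apply_self] at h
      exact h
    have hadd : ∀ j1 ∈ K, ∀ j2 ∈ K, ∀ j3 ∈ K, j3 t0 = j1 t0 * j2 t0 →
        γ x0 (j3 x0) = γ x0 (j1 x0) * γ x0 (j2 x0) := by
      intro j1 h1 j2 h2 j3 h3 h
      have m1 := hHK j1 h1 x0 hx0
      have m2 := hHK j2 h2 x0 hx0
      have m3 := hHK j3 h3 x0 hx0
      set n := (j1 x0 * j2 x0)⁻¹ * j3 x0 with hn
      have hnH : n ∈ H := H.mul_mem (H.inv_mem (H.mul_mem m1 m2)) m3
      have hθn : θ n = 1 := by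
        rw [hn, hθmul _ (H.inv_mem (H.mul_mem m1 m2)) _ m3, hθinv _ (H.mul_mem m1 m2),
          hθmul _ m1 _ m2, hθK j1 h1 x0 hx0, hθK j2 h2 x0 hx0, hθK j3 h3 x0 hx0, h]
        exact inv_mul_cancel _
      have h4 : j3 x0 = (j1 x0 * j2 x0) * n := by rw [hn]; group
      rw [h4, hγr x0 hx0 _ (H.mul_mem m1 m2) n hnH, hγr x0 hx0 _ m1 _ m2,
        hγθ' x0 hx0 n hnH hθn, mul_one]
    have hF1 : γ x0 ((1 : MulAut P) x0) = 1 := by
      rw [MulAut.one_apply]; exact hγa x0 hx0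
    -- squares
    have hsq : ∀ k ∈ K, k ≠ 1 → γ x0 ((k * k) x0) = 1 := by
      intro k hk hk1
      have hkt : k t0 ≠ t0 := fun h => hk1 (hS.free k hk t0 ht0 ht0sq h)
      have hkt2 : k t0 * k t0 = 1 := by rw [← map_mul, ht0sq, map_one]
      have hs1 : t0 * k t0 ≠ 1 := by
        intro h
        apply hkt
        have h5 : k t0 = t0⁻¹ := eq_inv_of_mul_eq_one_right h
        rw [h5, inv_eq_self ht0sq]
      have hs2 : (t0 * k t0) * (t0 * k t0) = 1 := by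
        have hc := hS.inv_central (k t0) hkt2 t0
        calc (t0 * k t0) * (t0 * k t0) = t0 * (k t0 * t0) * k t0 := by group
          _ = t0 * (t0 * k t0) * k t0 := by rw [← hc]
          _ = (t0 * t0) * (k t0 * k t0) := by group
          _ = 1 := by rw [ht0sq, hkt2, one_mul]
      obtain ⟨k', hk', hk't⟩ := hS.reg t0 (t0 * k t0) ht0 ht0sq hs1 hs2
      -- (iv)
      have hiv : ∀ y : P, y * y = 1 → k' y = y * k y := by
        intro y hy
        by_cases hy1 : y = 1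
        · rw [hy1, map_one, map_one, one_mul]
        · obtain ⟨j, hj, hjt⟩ := hS.reg t0 y ht0 ht0sq hy1 hy
          rw [← hjt]
          have e1 : k' (j t0) = j (k' t0) := by
            rw [← MulAut.mul_apply, ← MulAut.mul_apply, hS.comm k' hk' j hj]
          have e2 : k (j t0) = j (k t0) := by
            rw [← MulAut.mul_apply, ← MulAut.mul_apply, hS.comm k hk j hj]
          rw [e1, e2, hk't, map_mul]
      -- (vii)
      have hvii : γ x0 (k' x0) = γ x0 (k x0) := by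
        have h := hadd 1 K.one_mem k hk k' hk' (by rw [MulAut.one_apply, hk't])
        rw [h, hF1, one_mul]
      -- (v)
      have hkk' : k * k' ∈ K := K.mul_mem hk hk'
      have hv : (k * k')⁻¹ t0 = k⁻¹ t0 * k'⁻¹ t0 := by
        apply (k * k').injective
        rw [MulAut.apply_inv_self, map_mul]
        have e1 : (k * k') (k⁻¹ t0) = k' t0 := by
          rw [hS.comm k hk k' hk', MulAut.mul_apply, MulAut.apply_inv_self]
        have e2 : (k * k') (k'⁻¹ t0) = k t0 := by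
          rw [MulAut.mul_apply, MulAut.apply_inv_self]
        rw [e1, e2, hk't, mul_assoc, hkt2, mul_one]
      have hvi := hadd k⁻¹ (K.inv_mem hk) k'⁻¹ (K.inv_mem hk') (k * k')⁻¹ (K.inv_mem hkk') hv
      rw [hF2 (k * k') hkk', hF2 k hk, hF2 k' hk'] at hvi
      have hvi2 := congrArg (k * k') hvi
      rw [MulAut.apply_inv_self, map_mul] at hvi2
      have e1 : (k * k') (k⁻¹ (γ x0 (k x0))) = k' (γ x0 (k x0)) := by
        rw [hS.comm k hk k' hk', MulAut.mul_apply, MulAut.apply_inv_self]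
      have e2 : (k * k') (k'⁻¹ (γ x0 (k' x0))) = k (γ x0 (k' x0)) := by
        rw [MulAut.mul_apply, MulAut.apply_inv_self]
      rw [e1, e2, hvii] at hvi2
      have hFI : γ x0 (k x0) * γ x0 (k x0) = 1 := hγI x0 hx0 _ (hHK k hk x0 hx0)
      rw [hiv _ hFI, mul_assoc, ← map_mul, hFI, map_one, mul_one] at hvi2
      -- (viii)
      have hviii := hadd k hk (k * k) (K.mul_mem hk hk) (k * k') hkk' (by
        rw [MulAut.mul_apply, hk't, map_mul, MulAut.mul_apply])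
      rw [hvi2] at hviii
      exact (left_eq_mul.1 hviii)
    intro j hj
    obtain ⟨k, hk, rfl⟩ := hS.sq j hj
    by_cases hk1 : k = 1
    · rw [hk1, mul_one]; exact hF1
    · exact hsq k hk hk1
  intro x hx y hy
  by_cases h1 : θ x = 1
  · exact hγθ x hx y hy h1
  by_cases h2 : θ y = 1
  · exact hγθ' x hx y hy h2
  obtain ⟨k, hk, hkt⟩ := hS.reg (θ x) (θ y) h1 (hθI x hx) h2 (hθI y hy)
  have m1 := hHK k hk x hx
  set n := (k x)⁻¹ * y with hn
  have hnH : n ∈ H := H.mul_mem (H.inv_mem m1) hy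
  have hθn : θ n = 1 := by
    rw [hn, hθmul _ (H.inv_mem m1) _ hy, hθinv _ m1, hθK k hk x hx, hkt]
    exact inv_mul_cancel _
  have h4 : y = k x * n := by rw [hn]; group
  rw [h4, hγr x hx _ m1 n hnH, key x hx h1 k hk, hγθ' x hx n hnH hθn, mul_one]

/-! ### Commutator identities -/

lemma comm_mul_left (x y z : P) : ⁅x * y, z⁆ = x * ⁅y, z⁆ * x⁻¹ * ⁅x, z⁆ := by
  simp only [commutatorElement_def]; group

lemma comm_mul_right (x y z : P) : ⁅x, y * z⁆ = ⁅x, y⁆ * (y * ⁅x, z⁆ * y⁻¹) := by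
  simp only [commutatorElement_def]; group

lemma sq_mul (x y : P) : (x * y) * (x * y) = (x * x) * ⁅x⁻¹, y⁆ * (y * y) := by
  simp only [commutatorElement_def]; group

lemma comm_inv_left (x g : P) : ⁅x⁻¹, g⁆ = x⁻¹ * ⁅x, g⁆⁻¹ * x := by
  simp only [commutatorElement_def]; group

lemma comm_sq_of_commute (x y : P) (h : ⁅x, y⁆ * x = x * ⁅x, y⁆) :
    ⁅x * x, y⁆ = ⁅x, y⁆ * ⁅x, y⁆ := by
  rw [comm_mul_left, ← h, mul_inv_cancel_right]

lemma pow_two_pow_sq (x : P) (E : ℕ) : x ^ (2 ^ E) * x ^ (2 ^ E) = (x * x) ^ (2 ^ E) := by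
  rw [← pow_add, ← two_mul, pow_mul, pow_two]

lemma pow_two_pow_succ (x : P) (E : ℕ) : x ^ (2 ^ (E + 1)) = (x * x) ^ (2 ^ E) := by
  rw [pow_succ', pow_mul, pow_two]

/-- The commutator-power form of the Hua type lemma. -/
theorem hua' {K : Subgroup (MulAut P)} (hS : Setup P K)
    (H : Subgroup P) (hHK : ∀ k ∈ K, ∀ x ∈ H, k x ∈ H) (s N : ℕ) (hN : s + 2 ≤ N)
    (c1 : ∀ x ∈ H, ∀ y ∈ H, ∀ z ∈ H, ⁅x, y⁆ * z = z * ⁅x, y⁆)
    (c2 : ∀ x ∈ H, ∀ y ∈ H, (x * x) * (y * y) = (y * y) * (x * x))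
    (c3 : ∀ x ∈ H, ∀ y ∈ H, ⁅x, y⁆ ^ (2 ^ (s + 1)) = 1)
    (c5 : ∀ x ∈ H, (x ^ (2 ^ N)) * (x ^ (2 ^ N)) = 1)
    (c6 : ∀ x ∈ H, ∀ y ∈ H, x ^ (2 ^ N) = 1 → ⁅x, y⁆ ^ (2 ^ s) = 1) :
    ∀ x ∈ H, ∀ y ∈ H, ⁅x, y⁆ ^ (2 ^ s) = 1 := by
  have hcomm : ∀ x ∈ H, ∀ y ∈ H, ⁅x, y⁆ ∈ H := fun x hx y hy => by
    rw [commutatorElement_def]
    exact H.mul_mem (H.mul_mem (H.mul_mem hx hy) (H.inv_mem hx)) (H.inv_mem hy)
  apply hua hS H hHK (fun x => x ^ (2 ^ N)) (fun x y => ⁅x, y⁆ ^ (2 ^ s))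
  · exact c5
  · intro x hx y hy
    show (x * y) ^ (2 ^ N) = x ^ (2 ^ N) * y ^ (2 ^ N)
    obtain ⟨M, rfl⟩ : ∃ M, N = M + 1 := ⟨N - 1, by omega⟩
    have hc : ⁅x⁻¹, y⁆ ^ (2 ^ M) = 1 := by
      have h := c3 x⁻¹ (H.inv_mem hx) y hy
      obtain ⟨r, rfl⟩ : ∃ r, M = (s + 1) + r := ⟨M - (s + 1), by omega⟩
      rw [pow_add, pow_mul, h, one_pow]
    have e1 : Commute (x * x) (y * y) := c2 x hx y hy
    have e2 : Commute (x * x) ⁅x⁻¹, y⁆ :=
      (c1 x⁻¹ (H.inv_mem hx) y hy (x * x) (H.mul_mem hx hx)).symm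
    have e3 : Commute ⁅x⁻¹, y⁆ (y * y) := c1 x⁻¹ (H.inv_mem hx) y hy (y * y) (H.mul_mem hy hy)
    rw [pow_two_pow_succ, pow_two_pow_succ, pow_two_pow_succ, sq_mul, (e1.mul_left e3).mul_pow,
      e2.mul_pow, hc, mul_one]
  · intro k hk x hx
    show (k x) ^ (2 ^ N) = k (x ^ (2 ^ N))
    rw [map_pow]
  · intro x hx y hy
    show ⁅x, y⁆ ^ (2 ^ s) * ⁅x, y⁆ ^ (2 ^ s) = 1
    rw [← pow_add, ← two_mul, ← pow_succ']
    exact c3 x hx y hy
  · intro x hx y hy z hz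
    show ⁅x * y, z⁆ ^ (2 ^ s) = ⁅x, z⁆ ^ (2 ^ s) * ⁅y, z⁆ ^ (2 ^ s)
    have hcm : Commute ⁅x, z⁆ ⁅y, z⁆ := c1 x hx z hz _ (hcomm y hy z hz)
    have h1 : ⁅x * y, z⁆ = ⁅x, z⁆ * ⁅y, z⁆ := by
      rw [comm_mul_left, ← c1 y hy z hz x hx, mul_inv_cancel_right]
      exact hcm.symm
    rw [h1, hcm.mul_pow]
  · intro x hx y hy z hz
    show ⁅x, y * z⁆ ^ (2 ^ s) = ⁅x, y⁆ ^ (2 ^ s) * ⁅x, z⁆ ^ (2 ^ s)
    have hcm : Commute ⁅x, y⁆ ⁅x, z⁆ := c1 x hx y hy _ (hcomm x hx z hz)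
    have h1 : ⁅x, y * z⁆ = ⁅x, y⁆ * ⁅x, z⁆ := by
      rw [comm_mul_right, ← c1 x hx z hz y hy, mul_inv_cancel_right]
    rw [h1, hcm.mul_pow]
  · intro x hx
    show ⁅x, x⁆ ^ (2 ^ s) = 1
    rw [commutatorElement_self, one_pow]
  · intro k hk x hx y hy
    show ⁅k x, k y⁆ ^ (2 ^ s) = k (⁅x, y⁆ ^ (2 ^ s))
    rw [map_pow, map_commutatorElement]
  · exact c6

/-! ### Exponents and low order elements -/

lemma exists_exp [Finite P] (hP : IsPGroup 2 P) (W : Subgroup P) :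
    ∃ (E : ℕ) (u0 : P), u0 ∈ W ∧ (∀ u ∈ W, u ^ (2 ^ E) = 1) ∧
      (∀ E', E = E' + 1 → u0 ^ (2 ^ E') ≠ 1) := by
  classical
  obtain ⟨m, hm⟩ := IsPGroup.iff_card.1 hP
  have hex : ∃ E, ∀ u ∈ W, u ^ (2 ^ E) = 1 :=
    ⟨m, fun u _ => by rw [← hm]; exact pow_card_eq_one'⟩
  obtain ⟨E, hE, hmin⟩ : ∃ E, (∀ u ∈ W, u ^ (2 ^ E) = 1) ∧
      ∀ E' < E, ¬ ∀ u ∈ W, u ^ (2 ^ E') = 1 :=
    ⟨Nat.find hex, Nat.find_spec hex, fun E' h => Nat.find_min hex h⟩
  by_cases h0 : E = 0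
  · exact ⟨E, 1, W.one_mem, hE, fun E' h => by omega⟩
  · obtain ⟨E', hE'⟩ : ∃ E', E = E' + 1 := ⟨E - 1, by omega⟩
    have hmin' := hmin E' (by omega)
    push Not at hmin'
    obtain ⟨u0, hu0, hu0'⟩ := hmin'
    exact ⟨E, u0, hu0, hE, fun E'' h => by
      have h2 : E'' = E' := by omega
      rw [h2]; exact hu0'⟩

lemma low_order_mem [Finite P] (hP : IsPGroup 2 P) {K : Subgroup (MulAut P)} (hS : Setup P K)
    (X W : Subgroup P) (hWX : W ≤ X) (hWK : ∀ k ∈ K, ∀ w ∈ W, k w ∈ W)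
    (hcomm : ∀ w ∈ W, ∀ x ∈ X, w * x = x * w) :
    ∃ E : ℕ, (∀ u ∈ W, u ^ (2 ^ E) = 1) ∧ (∀ x ∈ X, x ^ (2 ^ E) = 1 → x ∈ W) := by
  obtain ⟨E, u0, hu0, hE, hE'⟩ := exists_exp hP W
  refine ⟨E, hE, ?_⟩
  rcases Nat.eq_zero_or_pos E with h0 | hpos
  · subst h0
    intro x _ hx
    rw [pow_zero, pow_one] at hx
    rw [hx]; exact W.one_mem
  obtain ⟨a, rfl⟩ : ∃ a, E = a + 1 := ⟨E - 1, by omega⟩
  have ht1 : u0 ^ (2 ^ a) ≠ 1 := hE' a rfl
  have ht1sq : u0 ^ (2 ^ a) * u0 ^ (2 ^ a) = 1 := by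
    rw [← pow_add, ← two_mul, ← pow_succ']; exact hE u0 hu0
  have key : ∀ j, j ≤ a + 1 → ∀ x ∈ X, x ^ (2 ^ j) = 1 → x ∈ W := by
    intro j
    induction j with
    | zero =>
      intro _ x _ hx
      rw [pow_zero, pow_one] at hx
      rw [hx]; exact W.one_mem
    | succ j ih =>
      intro hj x hxX hx
      have ih' := ih (by omega)
      have htsq : x ^ (2 ^ j) * x ^ (2 ^ j) = 1 := by
        rw [← pow_add, ← two_mul, ← pow_succ']; exact hx
      by_cases ht1' : x ^ (2 ^ j) = 1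
      · exact ih' x hxX ht1'
      · obtain ⟨k, hk, hkt⟩ := hS.reg _ (x ^ (2 ^ j)) ht1 ht1sq ht1' htsq
        have hwW : k (u0 ^ (2 ^ (a - j))) ∈ W := hWK k hk _ (W.pow_mem hu0 _)
        have hwpow : (k (u0 ^ (2 ^ (a - j)))) ^ (2 ^ j) = x ^ (2 ^ j) := by
          rw [← map_pow, ← pow_mul, ← pow_add, show a - j + j = a by omega]
          exact hkt
        have hcw : Commute x (k (u0 ^ (2 ^ (a - j))))⁻¹ :=
          Commute.inv_right (hcomm _ hwW x hxX).symm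
        have h1 : (x * (k (u0 ^ (2 ^ (a - j))))⁻¹) ^ (2 ^ j) = 1 := by
          rw [hcw.mul_pow, inv_pow, hwpow, mul_inv_cancel]
        have h2 := ih' _ (X.mul_mem hxX (X.inv_mem (hWX hwW))) h1
        have h3 : x = (x * (k (u0 ^ (2 ^ (a - j))))⁻¹) * k (u0 ^ (2 ^ (a - j))) := by group
        rw [h3]; exact W.mul_mem h2 hwW
  exact fun x hx h => key (a + 1) le_rfl x hx h

/-! ### Layers -/

/-- the chain `X, [X,G], [X,G,G], …` -/
def chain (X G : Subgroup P) : ℕ → Subgroup P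
  | 0 => X
  | j + 1 => ⁅chain X G j, G⁆

lemma exists_layer [Finite P] (hP : IsPGroup 2 P) (G X A : Subgroup P) (hXG : X ≤ G)
    (hXn : ∀ g ∈ G, ∀ x ∈ X, g * x * g⁻¹ ∈ X) (hAn : ∀ g ∈ G, ∀ a ∈ A, g * a * g⁻¹ ∈ A)
    (hXA : ¬ X ≤ A) :
    ∃ b ∈ X, b ∉ A ∧ b * b ∈ A ∧ ∀ g ∈ G, ⁅b, g⁆ ∈ A := by
  classical
  have hXs0 : chain X G 0 = X := rfl
  have hXss : ∀ j, chain X G (j + 1) = ⁅chain X G j, G⁆ := fun _ => rfl
  have hXsX : ∀ j, chain X G j ≤ X := by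
    intro j
    induction j with
    | zero => exact le_rfl
    | succ j ih =>
      rw [hXss, Subgroup.commutator_le]
      intro x hx g hg
      have hxX := ih hx
      have h1 : ⁅x, g⁆ = x * (g * x⁻¹ * g⁻¹) := by rw [commutatorElement_def]; group
      rw [h1]
      exact X.mul_mem hxX (hXn g hg _ (X.inv_mem hxX))
  have hlcs : ∀ j, chain X G j ≤ G.lowerCentralSeries j := by
    intro j
    induction j with
    | zero => exact hXG
    | succ j ih =>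
      rw [hXss, Subgroup.lowerCentralSeries_succ]
      exact Subgroup.commutator_mono ih le_rfl
  have hnil : Group.IsNilpotent G := (hP.to_subgroup G).isNilpotent
  obtain ⟨N, hN⟩ := (Subgroup.isNilpotent_iff_lowerCentralSeries G).1 hnil
  have hex : ∃ j, chain X G j ≤ A := ⟨N, by
    have h := hlcs N
    rw [hN] at h
    exact h.trans bot_le⟩
  obtain ⟨j, hj, hjmin⟩ : ∃ j, chain X G j ≤ A ∧ ∀ i < j, ¬ chain X G i ≤ A :=
    ⟨Nat.find hex, Nat.find_spec hex, fun i hi => Nat.find_min hex hi⟩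
  have hj0 : j ≠ 0 := by
    intro h0
    rw [h0, hXs0] at hj
    exact hXA hj
  obtain ⟨i, hi⟩ : ∃ i, j = i + 1 := ⟨j - 1, by omega⟩
  have hi' : ¬ chain X G i ≤ A := hjmin i (by omega)
  obtain ⟨b0, hb0, hb0A⟩ := SetLike.not_le_iff_exists.1 hi'
  have hb0c : ∀ g ∈ G, ⁅b0, g⁆ ∈ A := by
    intro g hg
    apply hj
    rw [hi, hXss]
    exact Subgroup.commutator_mem_commutator hb0 hg
  have hb0X : b0 ∈ X := hXsX i hb0
  have hpowc : ∀ m : ℕ, ∀ g ∈ G, ⁅b0 ^ m, g⁆ ∈ A := by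
    intro m
    induction m with
    | zero =>
      intro g _
      rw [pow_zero, commutatorElement_one_left]
      exact A.one_mem
    | succ m ih =>
      intro g hg
      rw [pow_succ, comm_mul_left]
      exact A.mul_mem (hAn _ (G.pow_mem (hXG hb0X) m) _ (hb0c g hg)) (ih g hg)
  obtain ⟨m, hm⟩ := IsPGroup.iff_card.1 hP
  have hex2 : ∃ r, b0 ^ (2 ^ r) ∈ A := ⟨m, by
    rw [← hm, pow_card_eq_one']; exact A.one_mem⟩
  obtain ⟨r, hr, hrmin⟩ : ∃ r, b0 ^ (2 ^ r) ∈ A ∧ ∀ q < r, b0 ^ (2 ^ q) ∉ A :=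
    ⟨Nat.find hex2, Nat.find_spec hex2, fun q hq => Nat.find_min hex2 hq⟩
  have hr0 : r ≠ 0 := by
    intro h0
    rw [h0, pow_zero, pow_one] at hr
    exact hb0A hr
  obtain ⟨q, hq⟩ : ∃ q, r = q + 1 := ⟨r - 1, by omega⟩
  refine ⟨b0 ^ (2 ^ q), X.pow_mem hb0X _, hrmin q (by omega), ?_, hpowc _⟩
  rw [← pow_add, ← two_mul, ← pow_succ', ← hq]
  exact hr

/-- The preimage in `X` of the central elements of order at most two modulo `A`. -/
def Lay (G X A : Subgroup P) (hXG : X ≤ G) (hXA : ∀ x ∈ X, ∀ a ∈ A, x * a * x⁻¹ ∈ A) :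
    Subgroup P where
  carrier := {x | x ∈ X ∧ x * x ∈ A ∧ ∀ g ∈ G, ⁅x, g⁆ ∈ A}
  mul_mem' := by
    rintro x y ⟨hx, hx2, hxc⟩ ⟨hy, hy2, hyc⟩
    refine ⟨X.mul_mem hx hy, ?_, fun g hg => ?_⟩
    · rw [sq_mul]
      refine A.mul_mem (A.mul_mem hx2 ?_) hy2
      rw [← commutatorElement_inv y x⁻¹]
      exact A.inv_mem (hyc _ (G.inv_mem (hXG hx)))
    · rw [comm_mul_left]
      exact A.mul_mem (hXA x hx _ (hyc g hg)) (hxc g hg)
  one_mem' := ⟨X.one_mem, by rw [mul_one]; exact A.one_mem, fun g _ => by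
    rw [commutatorElement_one_left]; exact A.one_mem⟩
  inv_mem' := by
    rintro x ⟨hx, hx2, hxc⟩
    refine ⟨X.inv_mem hx, ?_, fun g hg => ?_⟩
    · rw [← mul_inv_rev]; exact A.inv_mem hx2
    · rw [comm_inv_left]
      have h := hXA x⁻¹ (X.inv_mem hx) _ (A.inv_mem (hxc g hg))
      rwa [inv_inv] at h

lemma mem_Lay {G X A : Subgroup P} {hXG : X ≤ G} {hXA : ∀ x ∈ X, ∀ a ∈ A, x * a * x⁻¹ ∈ A}
    {x : P} : x ∈ Lay G X A hXG hXA ↔ x ∈ X ∧ x * x ∈ A ∧ ∀ g ∈ G, ⁅x, g⁆ ∈ A := Iff.rfl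

/-- invariance of a subgroup under the automorphisms in `K` -/
def KInv (K : Subgroup (MulAut P)) (G : Subgroup P) : Prop := ∀ k ∈ K, ∀ x ∈ G, k x ∈ G

lemma Lay_KInv {K : Subgroup (MulAut P)} {G X A : Subgroup P} {hXG : X ≤ G}
    {hXA : ∀ x ∈ X, ∀ a ∈ A, x * a * x⁻¹ ∈ A} (hG : KInv K G) (hX : KInv K X) (hA : KInv K A) :
    KInv K (Lay G X A hXG hXA) := by
  rintro k hk x ⟨hx, hx2, hxc⟩
  refine ⟨hX k hk x hx, ?_, fun g hg => ?_⟩
  · rw [← map_mul]; exact hA k hk _ hx2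
  · have h1 := hA k hk _ (hxc (k⁻¹ g) (hG k⁻¹ (K.inv_mem hk) g hg))
    rwa [map_commutatorElement, MulAut.apply_inv_self] at h1

lemma Lay_normal {G X A : Subgroup P} {hXG : X ≤ G}
    {hXA : ∀ x ∈ X, ∀ a ∈ A, x * a * x⁻¹ ∈ A}
    (hXn : ∀ g ∈ G, ∀ x ∈ X, g * x * g⁻¹ ∈ X) (hAn : ∀ g ∈ G, ∀ a ∈ A, g * a * g⁻¹ ∈ A) :
    ∀ g ∈ G, ∀ x ∈ Lay G X A hXG hXA, g * x * g⁻¹ ∈ Lay G X A hXG hXA := by
  rintro g hg x ⟨hx, hx2, hxc⟩
  refine ⟨hXn g hg x hx, ?_, fun h hh => ?_⟩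
  · have h1 : g * x * g⁻¹ * (g * x * g⁻¹) = g * (x * x) * g⁻¹ := by group
    rw [h1]; exact hAn g hg _ hx2
  · have h1 : ⁅g * x * g⁻¹, h⁆ = g * ⁅x, g⁻¹ * h * g⁆ * g⁻¹ := by
      simp only [commutatorElement_def]; group
    rw [h1]
    exact hAn g hg _ (hxc _ (G.mul_mem (G.mul_mem (G.inv_mem hg) hh) hg))

lemma le_Lay {G X A : Subgroup P} {hXG : X ≤ G}
    {hXA : ∀ x ∈ X, ∀ a ∈ A, x * a * x⁻¹ ∈ A} (hAX : A ≤ X)
    (hAn : ∀ g ∈ G, ∀ a ∈ A, g * a * g⁻¹ ∈ A) : A ≤ Lay G X A hXG hXA := by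
  intro a ha
  refine ⟨hAX ha, A.mul_mem ha ha, fun g hg => ?_⟩
  have h1 : ⁅a, g⁆ = a * (g * a⁻¹ * g⁻¹) := by rw [commutatorElement_def]; group
  rw [h1]
  exact A.mul_mem ha (hAn g hg _ (A.inv_mem ha))

lemma Lay_le {G X A : Subgroup P} {hXG : X ≤ G}
    {hXA : ∀ x ∈ X, ∀ a ∈ A, x * a * x⁻¹ ∈ A} : Lay G X A hXG hXA ≤ X := fun _ hx => hx.1

/-- centre of a subgroup, as a subgroup of the ambient group -/
def Cen (G : Subgroup P) : Subgroup P := G ⊓ Subgroup.centralizer (G : Set P)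

lemma mem_Cen {G : Subgroup P} {z : P} : z ∈ Cen G ↔ z ∈ G ∧ ∀ g ∈ G, g * z = z * g := by
  rw [Cen, Subgroup.mem_inf, Subgroup.mem_centralizer_iff]
  rfl

lemma two_le_exp {E : ℕ} {z : P} (h : z ^ (2 ^ E) = 1) (hz : z * z ≠ 1) : 2 ≤ E := by
  by_contra hcon
  have hE : E = 0 ∨ E = 1 := by omega
  rcases hE with rfl | rfl
  · rw [pow_zero, pow_one] at h
    exact hz (by rw [h, mul_one])
  · rw [pow_one, pow_two] at h
    exact hz h

lemma comm_eq_one_of_comm {x y : P} (h : x * y = y * x) : ⁅x, y⁆ = 1 :=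
  commutatorElement_eq_one_iff_mul_comm.2 h

/-- **Main theorem.** In a finite 2-group with a group of automorphisms as in `Setup`, the centre
of every non-abelian invariant subgroup has exponent two. -/
theorem center_sq [Finite P] {K : Subgroup (MulAut P)} (hS : Setup P K) (hP : IsPGroup 2 P) :
    ∀ (n : ℕ) (G : Subgroup P), Nat.card G ≤ n → KInv K G →
      (∃ a ∈ G, ∃ b ∈ G, a * b ≠ b * a) → ∀ z ∈ G, (∀ g ∈ G, g * z = z * g) → z * z = 1 := by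
  classical
  have : Finite (Subgroup P) :=
    Finite.of_injective (fun H : Subgroup P => (H : Set P)) SetLike.coe_injective
  intro n
  induction n with
  | zero =>
    intro G hcard
    have h := Nat.card_pos (α := G)
    omega
  | succ n ih =>
    intro G hcard hGK hnab z1 hz1G hz1c
    by_contra hz1
    -- (A): proper invariant subgroups containing `z1` are abelian
    have hA : ∀ H : Subgroup P, H ≤ G → H ≠ G → KInv K H → z1 ∈ H →
        ∀ a ∈ H, ∀ b ∈ H, a * b = b * a := by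
      intro H hHG hne hHK hz1H a ha b hb
      by_contra hab
      have hlt : Nat.card H ≤ n := by
        by_contra hcon
        apply hne
        exact Subgroup.eq_of_le_of_card_ge hHG (by omega)
      exact hz1 (ih H hlt hHK ⟨a, ha, b, hb, hab⟩ z1 hz1H (fun g hg => hz1c g (hHG hg)))
    set Z := Cen G with hZdef
    have hZG : Z ≤ G := inf_le_left
    have hz1Z : z1 ∈ Z := mem_Cen.2 ⟨hz1G, hz1c⟩
    have hZK : KInv K Z := by
      intro k hk z hz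
      obtain ⟨hzG, hzc⟩ := mem_Cen.1 hz
      refine mem_Cen.2 ⟨hGK k hk z hzG, fun g hg => ?_⟩
      have h1 := hzc (k⁻¹ g) (hGK k⁻¹ (K.inv_mem hk) g hg)
      have h2 := congrArg k h1
      rwa [map_mul, map_mul, MulAut.apply_inv_self] at h2
    have hZc : ∀ z ∈ Z, ∀ g ∈ G, g * z = z * g := fun z hz => (mem_Cen.1 hz).2
    -- Step 1: elements of small order are central
    obtain ⟨e, hZexp, hZlow⟩ := low_order_mem hP hS G Z hZG hZK
      (fun w hw x hx => (hZc w hw x hx).symm)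
    have he2 : 2 ≤ e := two_le_exp (hZexp z1 hz1Z) hz1
    have hlow4 : ∀ x ∈ G, x ^ 4 = 1 → x ∈ Z := by
      intro x hx h4
      apply hZlow x hx
      obtain ⟨r, rfl⟩ : ∃ r, e = 2 + r := ⟨e - 2, by omega⟩
      rw [pow_add, pow_mul]
      norm_num
      rw [h4, one_pow]
    -- Step 2: the second layer `D` is abelian
    have hGZn : ∀ x ∈ G, ∀ a ∈ Z, x * a * x⁻¹ ∈ Z := by
      intro x hx a ha
      rw [hZc a ha x hx, mul_inv_cancel_right]
      exact ha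
    set D := Lay G G Z le_rfl hGZn with hDdef
    have hDG : D ≤ G := Lay_le
    have hDK : KInv K D := Lay_KInv hGK hGK hZK
    have hZD : Z ≤ D := le_Lay hZG hGZn
    have hDab : ∀ x ∈ D, ∀ y ∈ D, ⁅x, y⁆ = 1 := by
      have h := hua' hS D hDK 0 e (by omega)
        (fun x hx y hy z hz => (hZc _ (hx.2.2 y (hDG hy)) z (hDG hz)).symm)
        (fun x hx y hy => (hZc _ hx.2.1 _ (G.mul_mem (hDG hy) (hDG hy))).symm)
        (fun x hx y hy => by
          have hc := hx.2.2 y (hDG hy)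
          have h1 := comm_sq_of_commute x y (hZc _ hc x (hDG hx)).symm
          have h2 : ⁅x * x, y⁆ = 1 := comm_eq_one_of_comm (hZc _ hx.2.1 y (hDG hy)).symm
          rw [h2] at h1
          rw [zero_add, pow_one, pow_two]
          exact h1.symm)
        (fun x hx => by
          rw [pow_two_pow_sq]
          exact hZexp _ hx.2.1)
        (fun x hx y hy h => by
          have hxZ := hZlow x (hDG hx) h
          rw [pow_zero, pow_one]
          exact comm_eq_one_of_comm (hZc x hxZ y (hDG hy)).symm)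
      intro x hx y hy
      have h1 := h x hx y hy
      rwa [pow_zero, pow_one] at h1
    have hDn : ∀ g ∈ G, ∀ x ∈ D, g * x * g⁻¹ ∈ D :=
      Lay_normal (fun g hg x hx => G.mul_mem (G.mul_mem hg hx) (G.inv_mem hg)) hGZn
    -- Step 3: a maximal invariant abelian normal subgroup is self-centralizing
    let Q : Subgroup P → Prop := fun A' => D ≤ A' ∧ A' ≤ G ∧ KInv K A' ∧
      (∀ g ∈ G, ∀ a ∈ A', g * a * g⁻¹ ∈ A') ∧ (∀ a ∈ A', ∀ b ∈ A', a * b = b * a)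
    have hQD : Q D := ⟨le_rfl, hDG, hDK, hDn, fun a ha b hb =>
      commutatorElement_eq_one_iff_mul_comm.1 (hDab a ha b hb)⟩
    obtain ⟨A, hDA, hAmax⟩ := Finite.exists_le_maximal hQD
    obtain ⟨-, hAG, hAK, hAn, hAab⟩ := hAmax.prop
    have hz1A : z1 ∈ A := hDA (hZD hz1Z)
    set C := G ⊓ Subgroup.centralizer (A : Set P) with hCdef
    have hmemC : ∀ x : P, x ∈ C ↔ x ∈ G ∧ ∀ a ∈ A, a * x = x * a := by
      intro x
      rw [hCdef, Subgroup.mem_inf, Subgroup.mem_centralizer_iff]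
      rfl
    have hCG : C ≤ G := inf_le_left
    have hAC : A ≤ C := fun a ha => (hmemC a).2 ⟨hAG ha, fun b hb => hAab b hb a ha⟩
    have hCAn : ∀ x ∈ C, ∀ a ∈ A, x * a * x⁻¹ ∈ A := by
      intro x hx a ha
      rw [← ((hmemC x).1 hx).2 a ha, mul_inv_cancel_right]
      exact ha
    have hCn : ∀ g ∈ G, ∀ x ∈ C, g * x * g⁻¹ ∈ C := by
      intro g hg x hx
      obtain ⟨hxG, hxc⟩ := (hmemC x).1 hx
      refine (hmemC _).2 ⟨G.mul_mem (G.mul_mem hg hxG) (G.inv_mem hg), fun a ha => ?_⟩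
      have h1 := hAn g⁻¹ (G.inv_mem hg) a ha
      rw [inv_inv] at h1
      have h2 := hxc _ h1
      calc a * (g * x * g⁻¹) = g * ((g⁻¹ * a * g) * x) * g⁻¹ := by group
        _ = g * (x * (g⁻¹ * a * g)) * g⁻¹ := by rw [h2]
        _ = g * x * g⁻¹ * a := by group
    have hCK : KInv K C := by
      intro k hk x hx
      obtain ⟨hxG, hxc⟩ := (hmemC x).1 hx
      refine (hmemC _).2 ⟨hGK k hk x hxG, fun a ha => ?_⟩
      have h1 := hxc (k⁻¹ a) (hAK k⁻¹ (K.inv_mem hk) a ha)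
      have h2 := congrArg k h1
      rwa [map_mul, map_mul, MulAut.apply_inv_self] at h2
    have hCA : C ≤ A := by
      by_contra hCA
      obtain ⟨b, hbC, hbA, hb2, hbc⟩ := exists_layer hP G C A hCG hCn hAn hCA
      set B := Lay G C A hCG hCAn with hBdef
      have hbB : b ∈ B := ⟨hbC, hb2, hbc⟩
      have hAB : A ≤ B := le_Lay hAC hAn
      have hBC : B ≤ C := Lay_le
      obtain ⟨a', hAexp, hAlow⟩ := low_order_mem hP hS C A hAC hAK
        (fun w hw x hx => ((hmemC x).1 hx).2 w hw)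
      have ha2 : 2 ≤ a' := two_le_exp (hAexp z1 hz1A) hz1
      have hBK : KInv K B := Lay_KInv hGK hCK hAK
      have hBab : ∀ x ∈ B, ∀ y ∈ B, ⁅x, y⁆ = 1 := by
        have h := hua' hS B hBK 0 a' (by omega)
          (fun x hx y hy z hz =>
            ((hmemC z).1 (hBC hz)).2 _ (hx.2.2 y (hCG (hBC hy))))
          (fun x hx y hy => hAab _ hx.2.1 _ hy.2.1)
          (fun x hx y hy => by
            have hc := hx.2.2 y (hCG (hBC hy))
            have h1 := comm_sq_of_commute x y (((hmemC x).1 (hBC hx)).2 _ hc)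
            have h2 : ⁅x * x, y⁆ = 1 :=
              comm_eq_one_of_comm (((hmemC y).1 (hBC hy)).2 _ hx.2.1)
            rw [h2] at h1
            rw [zero_add, pow_one, pow_two]
            exact h1.symm)
          (fun x hx => by
            rw [pow_two_pow_sq]
            exact hAexp _ hx.2.1)
          (fun x hx y hy h => by
            have hxA := hAlow x (hBC hx) h
            rw [pow_zero, pow_one]
            exact comm_eq_one_of_comm (((hmemC y).1 (hBC hy)).2 x hxA))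
        intro x hx y hy
        have h1 := h x hx y hy
        rwa [pow_zero, pow_one] at h1
      have hQB : Q B := ⟨hDA.trans hAB, hBC.trans hCG, hBK, Lay_normal hCn hAn,
        fun a ha b hb => commutatorElement_eq_one_iff_mul_comm.1 (hBab a ha b hb)⟩
      exact hbA (hAmax.le_of_ge hQB hAB hbB)
    -- Step 4: the layer above `A` is everything
    have hGAn : ∀ x ∈ G, ∀ a ∈ A, x * a * x⁻¹ ∈ A := hAn
    set E := Lay G G A le_rfl hGAn with hEdef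
    have hAE : A ≤ E := le_Lay hAG hAn
    have hEK : KInv K E := Lay_KInv hGK hGK hAK
    have hGnotA : ¬ G ≤ A := by
      intro hGA
      obtain ⟨a, ha, b, hb, hab⟩ := hnab
      exact hab (hAab a (hGA ha) b (hGA hb))
    have hEG : E = G := by
      by_contra hne
      obtain ⟨b, hbG, hbA, hb2, hbc⟩ := exists_layer hP G G A le_rfl
        (fun g hg x hx => G.mul_mem (G.mul_mem hg hx) (G.inv_mem hg)) hAn hGnotA
      have hbE : b ∈ E := ⟨hbG, hb2, hbc⟩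
      have hbC : b ∉ C := fun h => hbA (hCA h)
      rw [hmemC] at hbC
      push Not at hbC
      obtain ⟨u, hu, hub⟩ := hbC hbG
      exact hub (hA E Lay_le hne hEK (hAE hz1A) u (hAE hu) b hbE)
    have hGE : ∀ g ∈ G, g * g ∈ A ∧ ∀ h ∈ G, ⁅g, h⁆ ∈ A := by
      intro g hg
      have h : g ∈ E := by rw [hEG]; exact hg
      exact h.2
    -- Step 5: `[A, G]` consists of involutions
    have hAcomm : ∀ u ∈ A, ∀ g ∈ G, ⁅u, g⁆ ∈ A := by
      intro u hu g hg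
      have h1 : ⁅u, g⁆ = u * (g * u⁻¹ * g⁻¹) := by rw [commutatorElement_def]; group
      rw [h1]
      exact A.mul_mem hu (hAn g hg _ (A.inv_mem hu))
    have hinvert : ∀ v ∈ A, ∀ g ∈ G, g * ⁅v, g⁆ * g⁻¹ = ⁅v, g⁆⁻¹ := by
      intro v hv g hg
      have hc : (g * g) * v⁻¹ = v⁻¹ * (g * g) := hAab _ (hGE g hg).1 _ (A.inv_mem hv)
      calc g * ⁅v, g⁆ * g⁻¹ = (g * v * g⁻¹) * ((g * g) * v⁻¹ * (g * g)⁻¹) := by
            simp only [commutatorElement_def]; group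
        _ = (g * v * g⁻¹) * (v⁻¹ * (g * g) * (g * g)⁻¹) := by rw [hc]
        _ = ⁅v, g⁆⁻¹ := by simp only [commutatorElement_def]; group
    have hpowc : ∀ u ∈ A, ∀ g ∈ G, ∀ m : ℕ, ⁅u ^ m, g⁆ = ⁅u, g⁆ ^ m := by
      intro u hu g hg m
      induction m with
      | zero => rw [pow_zero, pow_zero, commutatorElement_one_left]
      | succ m ihm =>
        rw [pow_succ, comm_mul_left, ihm,
          hAab _ (A.pow_mem hu m) _ (hAcomm u hu g hg), mul_inv_cancel_right, ← pow_succ']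
    have hAI : ∀ u ∈ A, ∀ g ∈ G, ⁅u, g⁆ * ⁅u, g⁆ = 1 := by
      intro u hu g hg
      by_contra hc2
      obtain ⟨m, hm⟩ := IsPGroup.iff_card.1 hP
      have hex : ∃ r, ⁅u, g⁆ ^ (2 ^ r) = 1 := ⟨m, by rw [← hm]; exact pow_card_eq_one'⟩
      obtain ⟨r, hr, hrmin⟩ : ∃ r, ⁅u, g⁆ ^ (2 ^ r) = 1 ∧ ∀ q < r, ⁅u, g⁆ ^ (2 ^ q) ≠ 1 :=
        ⟨Nat.find hex, Nat.find_spec hex, fun q hq => Nat.find_min hex hq⟩
      have hr2 : 2 ≤ r := two_le_exp hr hc2
      obtain ⟨q, rfl⟩ : ∃ q, r = q + 2 := ⟨r - 2, by omega⟩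
      have hvA : u ^ (2 ^ q) ∈ A := A.pow_mem hu _
      have hc'eq : ⁅u ^ (2 ^ q), g⁆ = ⁅u, g⁆ ^ (2 ^ q) := hpowc u hu g hg _
      have h4 : (⁅u, g⁆ ^ (2 ^ q)) ^ 4 = 1 := by
        rw [← pow_mul]
        have h5 : 2 ^ q * 4 = 2 ^ (q + 2) := by ring
        rw [h5]; exact hr
      have hne : ⁅u, g⁆ ^ (2 ^ q) * ⁅u, g⁆ ^ (2 ^ q) ≠ 1 := by
        rw [← pow_add, ← two_mul, ← pow_succ']
        exact hrmin (q + 1) (by omega)
      have hcA : ⁅u, g⁆ ^ (2 ^ q) ∈ A := A.pow_mem (hAcomm u hu g hg) _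
      have hcZ : ⁅u, g⁆ ^ (2 ^ q) ∈ Z := hlow4 _ (hAG hcA) h4
      have h6 := hinvert _ hvA g hg
      rw [hc'eq, hZc _ hcZ g hg, mul_inv_cancel_right] at h6
      exact hne (mul_eq_one_iff_eq_inv.2 h6)
    have hA2Z : ∀ u ∈ A, u * u ∈ Z := by
      intro u hu
      refine mem_Cen.2 ⟨hAG (A.mul_mem hu hu), fun g hg => ?_⟩
      have h1 := comm_sq_of_commute u g (hAab _ (hAcomm u hu g hg) u hu)
      rw [hAI u hu g hg] at h1
      exact (commutatorElement_eq_one_iff_mul_comm.1 h1).symm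
    -- Step 6: commutators are central of order dividing four
    have hcomm4 : ∀ g ∈ G, ∀ h ∈ G, ⁅g, h⁆ ^ 4 = 1 := by
      intro g hg h hh
      have hwA := (hGE g hg).2 h hh
      have h1 : ⁅g * g, h⁆ = ⁅g, ⁅g, h⁆⁆ * (⁅g, h⁆ * ⁅g, h⁆) := by
        simp only [commutatorElement_def]; group
      have hi1 := hAI (g * g) (hGE g hg).1 h hh
      have hi0' := hAI ⁅g, h⁆ hwA g hg
      have hi0 : ⁅g, ⁅g, h⁆⁆ * ⁅g, ⁅g, h⁆⁆ = 1 := by
        rw [← commutatorElement_inv ⁅g, h⁆ g, ← mul_inv_rev, hi0', inv_one]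
      have h2 : ⁅g, h⁆ * ⁅g, h⁆ = ⁅g, ⁅g, h⁆⁆ * ⁅g * g, h⁆ := by
        rw [h1, ← mul_assoc, hi0, one_mul]
      have h3 : ⁅g, h⁆ ^ 4 = (⁅g, h⁆ * ⁅g, h⁆) * (⁅g, h⁆ * ⁅g, h⁆) := by
        rw [show (4 : ℕ) = 2 + 2 from rfl, pow_add, pow_two]
      rw [h3, h2]
      have hcen := hS.inv_central _ hi1 ⁅g, ⁅g, h⁆⁆
      calc ⁅g, ⁅g, h⁆⁆ * ⁅g * g, h⁆ * (⁅g, ⁅g, h⁆⁆ * ⁅g * g, h⁆)
          = ⁅g, ⁅g, h⁆⁆ * (⁅g * g, h⁆ * ⁅g, ⁅g, h⁆⁆) * ⁅g * g, h⁆ := by group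
        _ = ⁅g, ⁅g, h⁆⁆ * (⁅g, ⁅g, h⁆⁆ * ⁅g * g, h⁆) * ⁅g * g, h⁆ := by rw [hcen]
        _ = (⁅g, ⁅g, h⁆⁆ * ⁅g, ⁅g, h⁆⁆) * (⁅g * g, h⁆ * ⁅g * g, h⁆) := by group
        _ = 1 := by rw [hi0, hi1, one_mul]
    have hcommZ : ∀ g ∈ G, ∀ h ∈ G, ⁅g, h⁆ ∈ Z := fun g hg h hh =>
      hlow4 _ (hAG ((hGE g hg).2 h hh)) (hcomm4 g hg h hh)
    -- Step 7: squares of commutators vanish
    have hsq : ∀ x ∈ G, ∀ y ∈ G, ⁅x, y⁆ ^ (2 ^ 1) = 1 := by
      apply hua' hS G hGK 1 (e + 1) (by omega)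
      · exact fun x hx y hy z hz => (hZc _ (hcommZ x hx y hy) z hz).symm
      · exact fun x hx y hy => hAab _ (hGE x hx).1 _ (hGE y hy).1
      · intro x hx y hy
        have h := hcomm4 x hx y hy
        norm_num
        exact h
      · intro x hx
        rw [pow_two_pow_sq, pow_two_pow_succ]
        exact hZexp _ (hA2Z _ (hGE x hx).1)
      · intro x hx y hy h
        rw [pow_two_pow_succ] at h
        have hxZ := hZlow (x * x) (G.mul_mem hx hx) h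
        have h1 := comm_sq_of_commute x y (hZc _ (hcommZ x hx y hy) x hx).symm
        have h2 : ⁅x * x, y⁆ = 1 := comm_eq_one_of_comm (hZc _ hxZ y hy).symm
        rw [h2] at h1
        rw [pow_one, pow_two]
        exact h1.symm
    -- Step 8: `G = D` is abelian
    have hGD : ∀ x ∈ G, x ∈ D := by
      intro x hx
      refine ⟨hx, mem_Cen.2 ⟨G.mul_mem hx hx, fun g hg => ?_⟩, fun g hg => hcommZ x hx g hg⟩
      have h1 := comm_sq_of_commute x g (hZc _ (hcommZ x hx g hg) x hx).symm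
      have h2 := hsq x hx g hg
      rw [pow_one, pow_two] at h2
      rw [h2] at h1
      exact (commutatorElement_eq_one_iff_mul_comm.1 h1).symm
    obtain ⟨a, ha, b, hb, hab⟩ := hnab
    exact hab (commutatorElement_eq_one_iff_mul_comm.1 (hDab a (hGD a ha) b (hGD b hb)))

end Cfsg.Agent.Lib.Helper63.Suzuki2
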