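import Mathlib
import Cfsg.Agent.Lib.Helper41.EMStmt
import Cfsg.Agent.Lib.Helper44.OEmb
import Cfsg.Agent.Lib.Helper44.Inv8
import Cfsg.Agent.Lib.Helper47.TPTSEX
import Cfsg.Agent.Lib.Helper35.EPSUBTYPE

/-!
# S5990 piece SUBTYPE (call by helper41): minus-form port of `Helper35.EPSUBTYPE`

A nondegenerate subspace `U` of the standard minus space contains nondegenerate subspaces of every
even dimension `e < dim U` of plus type, and elliptic ones for `2 ≤ e` (all `q`).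

Proof: the standard plus space (resp. a standard minus space) of dimension `e` embeds isometrically
into `U` (`Helper44.OEmb.exists_embedding`); the image is nondegenerate and has the type of its
source.
-/

set_option autoImplicit false

universe u

namespace Cfsg.Agent.Lib.Helper63.EMSUBTYPE

open QuadraticMap
open Cfsg.Agent.Lib.Helper41.EMStmt
open Cfsg.Agent.Lib.Helper45.OMiStmt (M Aniso FxM NDegM StabM)
open Cfsg.Agent.Lib.Helper41.TMTwoStmt (PlusM TSubM)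
open Cfsg.Agent.Lib.Helper44.QSpace Cfsg.Agent.Lib.Helper44.NegPairs

/-- the image of an isometric embedding of a nondegenerate space into `U` -/
theorem sub_of_iso {F : Type u} [Field F] {d : ℕ} (a₀ b₀ : F) {V₁ : Type u} [AddCommGroup V₁]
    [Module F V₁]
    (Q₁ : QuadraticForm F V₁) (hS₁ : Sep Q₁) (U : Submodule F (M d → F)) (j : V₁ →ₗ[F] ↥U)
    (hj : ∀ v, res (minusQ (d - 1) F a₀ b₀) U (j v) = Q₁ v) :
    ∃ φ : V₁ →ₗ[F] (M d → F), Function.Injective φ ∧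
      (∀ v, Cfsg.quadFormMinus (d - 1) F a₀ b₀ (φ v) = Q₁ v) ∧
      LinearMap.range φ ≤ U ∧ NDegM d F a₀ b₀ (LinearMap.range φ) := by
  obtain ⟨φ, hφdef⟩ : ∃ φ : V₁ →ₗ[F] (M d → F), φ = U.subtype ∘ₗ j := ⟨_, rfl⟩
  have hφ : ∀ v, Cfsg.quadFormMinus (d - 1) F a₀ b₀ (φ v) = Q₁ v := by
    intro v
    rw [hφdef]
    exact hj v
  have hpol : ∀ v y, polar (Cfsg.quadFormMinus (d - 1) F a₀ b₀) (φ v) (φ y) = polar Q₁ v y := by
    intro v y
    unfold polar
    rw [← map_add, hφ, hφ, hφ]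
  have hinj : Function.Injective φ := by
    rw [← LinearMap.ker_eq_bot, LinearMap.ker_eq_bot']
    intro v hv
    apply hS₁
    intro y
    rw [← hpol, hv]
    have h0 : Cfsg.quadFormMinus (d - 1) F a₀ b₀ 0 = 0 := by
      have := hφ 0
      rwa [map_zero, map_zero] at this
    unfold polar
    rw [zero_add, h0]
    ring
  refine ⟨φ, hinj, hφ, ?_, ?_⟩
  · rintro _ ⟨v, rfl⟩
    rw [hφdef]
    exact (j v).2
  · rintro _ ⟨v, rfl⟩ hw
    have hv : v ≠ 0 := by
      rintro rfl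
      exact hw (map_zero _)
    obtain ⟨y, hy⟩ : ∃ y, polar Q₁ v y ≠ 0 := by
      by_contra hcon
      exact hv (hS₁ v (fun y => by_contra (fun h => hcon ⟨y, h⟩)))
    refine ⟨⟨φ y, ⟨y, rfl⟩, ?_⟩, ⟨φ y, ⟨y, rfl⟩, ?_⟩⟩
    · rw [hpol, polar_comm]
      exact hy
    · rw [hpol]
      exact hy

theorem main : SubTypeE.{u} := by
  intro F _ _ a₀ b₀ _ d e U hU he hlt
  classical
  have hSU : Sep (res (minusQ (d - 1) F a₀ b₀) U) := by
    intro x hx
    by_contra hne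
    have hx0 : (x : M d → F) ≠ 0 := fun h => hne (Subtype.ext h)
    obtain ⟨-, ⟨y, hyU, hy⟩⟩ := hU (x : M d → F) x.2 hx0
    exact hy (hx ⟨y, hyU⟩)
  obtain ⟨k, rfl⟩ : ∃ k, e = 2 * k := by
    obtain ⟨k, hk⟩ := he
    exact ⟨k, by omega⟩
  constructor
  · have h1 : Module.finrank F (Fin k ⊕ Fin k → F) = 2 * k := by
      rw [Module.finrank_fintype_fun_eq_card, Fintype.card_sum, Fintype.card_fin]
      omega
    obtain ⟨j, hj⟩ := Cfsg.Agent.Lib.Helper44.OEmb.exists_embedding k (Fin k ⊕ Fin k → F)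
      (plusQ k F) ↥U (res (minusQ (d - 1) F a₀ b₀) U) h1 (by rw [h1]; exact hlt) (sep_plusQ k) hSU
    obtain ⟨φ, hinj, hφ, hle, hnd⟩ := sub_of_iso a₀ b₀ (plusQ k F) (sep_plusQ k) U j hj
    obtain ⟨T₁, hT₁, hTS⟩ := Cfsg.Agent.Lib.Helper47.TPTSEX.exists_ts (F := F) k k le_rfl
    have hfr : Module.finrank F ↥(LinearMap.range φ) = 2 * k := by
      rw [LinearMap.finrank_range_of_inj hinj, h1]
    refine ⟨LinearMap.range φ, hle, hfr, hnd, ?_⟩
    unfold PlusM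
    refine ⟨T₁.map φ, ?_, ?_, ?_⟩
    · rintro _ ⟨t, -, rfl⟩
      exact ⟨t, rfl⟩
    · rintro _ ⟨t, ht, rfl⟩
      show Cfsg.quadFormMinus (d - 1) F a₀ b₀ (φ t) = 0
      rw [hφ]
      exact hTS t ht
    · rw [hfr, ← (Submodule.equivMapOfInjective φ hinj T₁).finrank_eq, hT₁]
  · intro he2
    obtain ⟨m, rfl⟩ : ∃ m, k = m + 1 := ⟨k - 1, by omega⟩
    obtain ⟨ζ, hab⟩ := Cfsg.Agent.Lib.Helper35.EPSUBTYPE.exists_aniso F
    have hS₁ := Cfsg.Agent.Lib.Helper35.EPSUBTYPE.sep_minus_all F m 1 ζ hab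
    have h1 : Module.finrank F ((Fin m ⊕ Fin m) ⊕ Fin 2 → F) = 2 * (m + 1) := by
      rw [Module.finrank_fintype_fun_eq_card, Fintype.card_sum, Fintype.card_sum, Fintype.card_fin,
        Fintype.card_fin]
      omega
    obtain ⟨j, hj⟩ := Cfsg.Agent.Lib.Helper44.OEmb.exists_embedding (m + 1)
      ((Fin m ⊕ Fin m) ⊕ Fin 2 → F) (minusQ m F 1 ζ) ↥U (res (minusQ (d - 1) F a₀ b₀) U) h1
      (by rw [h1]; exact hlt) hS₁ hSU
    obtain ⟨φ, hinj, hφ, hle, hnd⟩ := sub_of_iso a₀ b₀ (minusQ m F 1 ζ) hS₁ U j hj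
    have hfr : Module.finrank F ↥(LinearMap.range φ) = 2 * (m + 1) := by
      rw [LinearMap.finrank_range_of_inj hinj, h1]
    refine ⟨LinearMap.range φ, hle, ?_⟩
    unfold MemEM
    refine ⟨hfr, hnd, ?_⟩
    rintro ⟨T, hTW, hTS, hTf⟩
    have hW : ∀ w ∈ T.comap φ, minusQ m F 1 ζ w = 0 := by
      intro w hw
      rw [← hφ]
      exact hTS (φ w) hw
    have hle' := Cfsg.Agent.Lib.Helper44.Inv8.minus_ts_le hS₁ hab hW
    have hmc : (T.comap φ).map φ = T := Submodule.map_comap_eq_of_le hTW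
    have hfin : Module.finrank F ↥(T.comap φ) = Module.finrank F ↥T := by
      rw [(Submodule.equivMapOfInjective φ hinj (T.comap φ)).finrank_eq, hmc]
    rw [hfr] at hTf
    omega

end Cfsg.Agent.Lib.Helper63.EMSUBTYPE
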