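import Mathlib

/-!
# A finite field from a commuting family of automorphisms acting regularly

Let `A` be a finite commutative group and `ρ : K → A → A` a commuting action of a group `K` by
automorphisms which is regular on the non-identity elements of `A` (through a base point `a₀`).
Then `A` is the additive group of a finite field `F` on which `K` acts by multiplications.
The field is the centraliser of the action in the endomorphism ring of `A`, moved to `Type`.
-/

set_option autoImplicit false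

namespace Cfsg.Agent.Lib.Helper63.FieldAct

theorem exists_field {A : Type*} [CommGroup A] [Finite A] {K : Type*} [Group K]
    (ρ : K → A → A) (hmul : ∀ k a b, ρ k (a * b) = ρ k a * ρ k b)
    (hcomp : ∀ k k' a, ρ (k * k') a = ρ k (ρ k' a)) (hone : ∀ a, ρ 1 a = a)
    (hcomm : ∀ k k' a, ρ k (ρ k' a) = ρ k' (ρ k a))
    (a₀ : A) (ha₀ : a₀ ≠ 1)
    (hreg : ∀ a : A, a ≠ 1 → ∃ k : K, ρ k a₀ = a) :
    ∃ (F : Type) (_ : Field F) (_ : Fintype F) (γ : F → A) (ι : K → F),
      Function.Bijective γ ∧ (∀ x y, γ (x + y) = γ x * γ y) ∧ γ 1 = a₀ ∧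
      (∀ k, ι k ≠ 0) ∧ (∀ x : F, x ≠ 0 → ∃ k, ι k = x) ∧ (∀ k k', ι (k * k') = ι k * ι k') ∧
      (∀ k x, ρ k (γ x) = γ (ι k * x)) := by
  classical
  have hρ1 : ∀ k, ρ k 1 = 1 := by
    intro k
    have h := hmul k 1 1
    rw [mul_one] at h
    exact (left_eq_mul.1 h)
  have hρinj : ∀ k a, ρ k a = 1 → a = 1 := by
    intro k a h
    have h2 : ρ k⁻¹ (ρ k a) = a := by rw [← hcomp, inv_mul_cancel, hone]
    rw [h, hρ1] at h2
    exact h2.symm
  -- the endomorphisms
  let r : K → AddMonoid.End (Additive A) := fun k =>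
    AddMonoidHom.mk' (fun a => Additive.ofMul (ρ k a.toMul)) (by
      intro a b
      show Additive.ofMul (ρ k (a.toMul * b.toMul)) = _
      rw [hmul]; rfl)
  have hr : ∀ k (a : Additive A), r k a = Additive.ofMul (ρ k a.toMul) := fun k a => rfl
  have hrmul : ∀ k k', r k * r k' = r (k * k') := by
    intro k k'
    ext a
    show r k (r k' a) = r (k * k') a
    rw [hr, hr, hr, hcomp]; rfl
  have hr1 : r 1 = 1 := by
    ext a
    show r 1 a = a
    rw [hr, hone]; rfl
  let R : Subring (AddMonoid.End (Additive A)) := Subring.centralizer (Set.range r)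
  have hmemR : ∀ g : AddMonoid.End (Additive A), g ∈ R ↔ ∀ k, r k * g = g * r k := by
    intro g
    rw [Subring.mem_centralizer_iff]
    constructor
    · intro h k
      exact h (r k) ⟨k, rfl⟩
    · rintro h _ ⟨k, rfl⟩
      exact h k
  have hrR : ∀ k, r k ∈ R := by
    intro k
    rw [hmemR]
    intro k'
    ext a
    show r k' (r k a) = r k (r k' a)
    rw [hr, hr, hr, hr]
    exact congrArg Additive.ofMul (hcomm k' k a.toMul)
  have hRapp : ∀ g ∈ R, ∀ k (a : Additive A), g (r k a) = r k (g a) := by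
    intro g hg k a
    have h := (hmemR g).1 hg k
    exact (DFunLike.congr_fun h a).symm
  set v₀ : Additive A := Additive.ofMul a₀ with hv₀
  have hv₀ne : v₀ ≠ 0 := fun h => ha₀ (Additive.ofMul.injective h)
  have hexk : ∀ v : Additive A, v ≠ 0 → ∃ k, r k v₀ = v := by
    intro v hv
    obtain ⟨k, hk⟩ := hreg v.toMul (fun h => hv (Additive.toMul.injective h))
    refine ⟨k, ?_⟩
    rw [hr]
    show Additive.ofMul (ρ k a₀) = v
    rw [hk]; rfl
  -- an element of R is determined by its value at the base point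
  have hF3 : ∀ g ∈ R, g v₀ = 0 → g = 0 := by
    intro g hg h0
    ext v
    show g v = 0
    by_cases hv : v = 0
    · rw [hv, map_zero]
    · obtain ⟨k, rfl⟩ := hexk v hv
      rw [hRapp g hg, h0, map_zero]
  have hF4 : ∀ g ∈ R, g ≠ 0 → ∃ k, g = r k := by
    intro g hg hne
    have h1 : g v₀ ≠ 0 := fun h => hne (hF3 g hg h)
    obtain ⟨k, hk⟩ := hexk _ h1
    refine ⟨k, ?_⟩
    have h2 : g - r k ∈ R := R.sub_mem hg (hrR k)
    have h3 : (g - r k) v₀ = 0 := by
      show g v₀ - r k v₀ = 0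
      rw [hk, sub_self]
    exact sub_eq_zero.1 (hF3 _ h2 h3)
  have hfld : IsField R := by
    refine ⟨⟨0, 1, ?_⟩, ?_, ?_⟩
    · intro h
      have h2 : (0 : AddMonoid.End (Additive A)) = 1 := congrArg Subtype.val h
      have h3 := DFunLike.congr_fun h2 v₀
      exact hv₀ne h3.symm
    · intro x y
      apply Subtype.ext
      show (x : AddMonoid.End (Additive A)) * y = y * x
      by_cases hy : (y : AddMonoid.End (Additive A)) = 0
      · rw [hy, mul_zero, zero_mul]
      · obtain ⟨k, hk⟩ := hF4 y y.2 hy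
        rw [hk]
        exact ((hmemR x).1 x.2 k).symm
    · intro x hx
      have hx' : (x : AddMonoid.End (Additive A)) ≠ 0 := fun h => hx (Subtype.ext h)
      obtain ⟨k, hk⟩ := hF4 x x.2 hx'
      refine ⟨⟨r k⁻¹, hrR _⟩, ?_⟩
      apply Subtype.ext
      show (x : AddMonoid.End (Additive A)) * r k⁻¹ = 1
      rw [hk, hrmul, mul_inv_cancel, hr1]
  let _instF : Field R := hfld.toField
  have hfinE : Finite (AddMonoid.End (Additive A)) :=
    Finite.of_injective (fun f : AddMonoid.End (Additive A) => (f : Additive A → Additive A))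
      DFunLike.coe_injective
  have hfinR : Finite R := inferInstance
  have hsmall : Small.{0} R := inferInstance
  let e : Shrink.{0} R ≃+* R := Shrink.ringEquiv R
  have hfinS : Finite (Shrink.{0} R) := Finite.of_equiv R (equivShrink R)
  refine ⟨Shrink.{0} R, inferInstance, Fintype.ofFinite _,
    fun x => Additive.toMul ((e x : AddMonoid.End (Additive A)) v₀),
    fun k => e.symm ⟨r k, hrR k⟩, ⟨?_, ?_⟩, ?_, ?_, ?_, ?_, ?_, ?_⟩
  · intro x y hxy
    have h1 : (e x : AddMonoid.End (Additive A)) v₀ = (e y : AddMonoid.End (Additive A)) v₀ :=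
      Additive.toMul.injective hxy
    have h2 : ((e x : AddMonoid.End (Additive A)) - (e y : AddMonoid.End (Additive A))) v₀ = 0 := by
      show (e x : AddMonoid.End (Additive A)) v₀ - (e y : AddMonoid.End (Additive A)) v₀ = 0
      rw [h1, sub_self]
    have h3 := hF3 _ (R.sub_mem (e x).2 (e y).2) h2
    have h4 : e x = e y := Subtype.ext (sub_eq_zero.1 h3)
    exact e.injective h4
  · intro a
    by_cases ha : a = 1
    · refine ⟨0, ?_⟩
      show Additive.toMul ((e 0 : AddMonoid.End (Additive A)) v₀) = a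
      rw [map_zero, ha]; rfl
    · obtain ⟨k, hk⟩ := hreg a ha
      refine ⟨e.symm ⟨r k, hrR k⟩, ?_⟩
      show Additive.toMul ((e (e.symm ⟨r k, hrR k⟩) : AddMonoid.End (Additive A)) v₀) = a
      rw [RingEquiv.apply_symm_apply]
      show Additive.toMul (r k v₀) = a
      rw [hr]
      exact hk
  · intro x y
    show Additive.toMul ((e (x + y) : AddMonoid.End (Additive A)) v₀) = _
    rw [map_add]; rfl
  · show Additive.toMul ((e 1 : AddMonoid.End (Additive A)) v₀) = a₀
    rw [map_one]; rfl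
  · intro k h
    have h1 : (⟨r k, hrR k⟩ : R) = 0 := by
      have := congrArg e h
      rwa [RingEquiv.apply_symm_apply, map_zero] at this
    have h2 : r k = 0 := congrArg Subtype.val h1
    have h3 : r k v₀ = 0 := by rw [h2]; rfl
    rw [hr] at h3
    exact ha₀ (hρinj k a₀ (Additive.ofMul.injective h3))
  · intro x hx
    have h1 : e x ≠ 0 := fun h => hx (e.injective (h.trans (map_zero e).symm))
    have h2 : (e x : AddMonoid.End (Additive A)) ≠ 0 := fun h => h1 (Subtype.ext h)
    obtain ⟨k, hk⟩ := hF4 _ (e x).2 h2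
    refine ⟨k, ?_⟩
    have h3 : (⟨r k, hrR k⟩ : R) = e x := Subtype.ext hk.symm
    show e.symm ⟨r k, hrR k⟩ = x
    rw [h3, RingEquiv.symm_apply_apply]
  · intro k k'
    show e.symm ⟨r (k * k'), hrR (k * k')⟩ = e.symm ⟨r k, hrR k⟩ * e.symm ⟨r k', hrR k'⟩
    rw [← map_mul]
    congr 1
    exact Subtype.ext (hrmul k k').symm
  · intro k x
    show ρ k (Additive.toMul ((e x : AddMonoid.End (Additive A)) v₀)) =
      Additive.toMul ((e (e.symm ⟨r k, hrR k⟩ * x) : AddMonoid.End (Additive A)) v₀)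
    rw [map_mul, RingEquiv.apply_symm_apply]
    rfl

/-- The same coordinates over a prescribed finite field of the right cardinality. -/
theorem exists_coord {A : Type*} [CommGroup A] [Finite A] {K : Type*} [Group K]
    (ρ : K → A → A) (hmul : ∀ k a b, ρ k (a * b) = ρ k a * ρ k b)
    (hcomp : ∀ k k' a, ρ (k * k') a = ρ k (ρ k' a)) (hone : ∀ a, ρ 1 a = a)
    (hcomm : ∀ k k' a, ρ k (ρ k' a) = ρ k' (ρ k a))
    (a₀ : A) (ha₀ : a₀ ≠ 1)
    (hreg : ∀ a : A, a ≠ 1 → ∃ k : K, ρ k a₀ = a)
    (F : Type) [Field F] [Fintype F] (hcard : Fintype.card F = Nat.card A) :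
    ∃ (γ : F → A) (ι : K → F),
      Function.Bijective γ ∧ (∀ x y, γ (x + y) = γ x * γ y) ∧ γ 1 = a₀ ∧
      (∀ k, ι k ≠ 0) ∧ (∀ x : F, x ≠ 0 → ∃ k, ι k = x) ∧ (∀ k k', ι (k * k') = ι k * ι k') ∧
      (∀ k x, ρ k (γ x) = γ (ι k * x)) := by
  obtain ⟨F₁, _, _, γ₁, ι₁, hbij, hadd, h1, hne, hsurj, hιmul, hact⟩ :=
    exists_field ρ hmul hcomp hone hcomm a₀ ha₀ hreg
  have hc1 : Fintype.card F₁ = Nat.card A := by
    rw [Fintype.card_eq_nat_card]
    exact Nat.card_congr (Equiv.ofBijective γ₁ hbij)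
  let θ : F ≃+* F₁ := FiniteField.ringEquivOfCardEq (hcard.trans hc1.symm)
  refine ⟨fun x => γ₁ (θ x), fun k => θ.symm (ι₁ k), ?_, ?_, ?_, ?_, ?_, ?_, ?_⟩
  · exact hbij.comp θ.bijective
  · intro x y
    show γ₁ (θ (x + y)) = γ₁ (θ x) * γ₁ (θ y)
    rw [map_add, hadd]
  · show γ₁ (θ 1) = a₀
    rw [map_one, h1]
  · intro k h
    apply hne k
    have := congrArg θ h
    rwa [RingEquiv.apply_symm_apply, map_zero] at this
  · intro x hx
    have hx' : θ x ≠ 0 := fun h => hx (θ.injective (h.trans (map_zero θ).symm))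
    obtain ⟨k, hk⟩ := hsurj (θ x) hx'
    exact ⟨k, by show θ.symm (ι₁ k) = x; rw [hk, RingEquiv.symm_apply_apply]⟩
  · intro k k'
    show θ.symm (ι₁ (k * k')) = θ.symm (ι₁ k) * θ.symm (ι₁ k')
    rw [hιmul, map_mul]
  · intro k x
    show ρ k (γ₁ (θ x)) = γ₁ (θ (θ.symm (ι₁ k) * x))
    rw [map_mul, RingEquiv.apply_symm_apply, hact]

end Cfsg.Agent.Lib.Helper63.FieldAct
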