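import Mathlib
import Cfsg.Agent.S1447

/-!
# Coprime automorphism groups of non-abelian metacyclic `p`-groups (`p` odd)

If `S` is a non-abelian metacyclic `p`-group with `p` odd and `H ≤ Aut S` has order coprime
to `p`, then `H` is abelian of exponent dividing `p - 1`.  (The group `H` embeds into the
automorphism group of the cyclic group `[S, H]`.)
-/

set_option autoImplicit false

namespace Cfsg.Agent.Lib.Helper63.MetaAut

open scoped commutatorElement

/-- Iterating a conjugation that acts as a power map. -/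
theorem conj_pow_iter {G : Type*} [Group G] (a k : G) (u : ℕ) (h : a * k * a⁻¹ = k ^ u)
    (n : ℕ) : a ^ n * k * (a ^ n)⁻¹ = k ^ (u ^ n) := by
  induction n with
  | zero => simp
  | succ n ih =>
    have h1 : a ^ (n + 1) * k * (a ^ (n + 1))⁻¹ = a * (a ^ n * k * (a ^ n)⁻¹) * a⁻¹ := by
      rw [pow_succ']; group
    rw [h1, ih, ← conj_pow, h, ← pow_mul, pow_succ, mul_comm]

/-- Internal version: a coprime group `A` acting faithfully (by conjugation) on a non-abelian
metacyclic `p`-subgroup `R` (`p` odd) is abelian of exponent dividing `p - 1`. -/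
theorem internal {G : Type*} [Group G] [Finite G] (p : ℕ) [Fact p.Prime] (hp : p ≠ 2)
    (R A : Subgroup G) (hR : IsPGroup p R) (hRm : Cfsg.IsMetacyclic R)
    (hA : A ≤ Subgroup.normalizer (R : Set G)) (hcop : (Nat.card A).Coprime p)
    (hRna : ¬ IsMulCommutative R)
    (hfaith : ∀ a ∈ A, (∀ r ∈ R, a * r = r * a) → a = 1) :
    (∀ a ∈ A, ∀ b ∈ A, a * b = b * a) ∧ ∀ a ∈ A, a ^ (p - 1) = 1 := by
  classical
  have hpp : p.Prime := Fact.out
  by_cases hAc : A ≤ Subgroup.centralizer (R : Set G)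
  · have h1 : ∀ a ∈ A, a = 1 := fun a ha =>
      hfaith a ha (fun r hr => (Subgroup.mem_centralizer_iff.mp (hAc ha) r hr).symm)
    refine ⟨fun a ha b hb => by rw [h1 a ha, h1 b hb], fun a ha => by rw [h1 a ha, one_pow]⟩
  obtain ⟨-, hsup, -, h4⟩ := Cfsg.Agent.S1447.result p hp R A hR hRm hA hcop
  obtain ⟨hKne, hKcyc, -, -, -⟩ := h4 hRna hAc
  have hKR : ⁅R, A⁆ ≤ R := le_sup_left.trans hsup.le
  -- a generator of `K = [R, A]`
  have hKcyc' : IsCyclic ↥⁅R, A⁆ := hKcyc
  obtain ⟨⟨k0, hk0K⟩, hgen⟩ := IsCyclic.exists_monoid_generator (α := ↥⁅R, A⁆)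
  have hgen' : ∀ y ∈ ⁅R, A⁆, ∃ n : ℕ, k0 ^ n = y := by
    intro y hy
    obtain ⟨n, hn⟩ := (Submonoid.mem_powers_iff _ _).mp (hgen ⟨y, hy⟩)
    exact ⟨n, by simpa using congrArg Subtype.val hn⟩
  have hk0ne : k0 ≠ 1 := by
    intro h1
    apply hKne
    rw [eq_bot_iff]
    intro y hy
    obtain ⟨n, rfl⟩ := hgen' y hy
    rw [h1, one_pow]
    exact Subgroup.mem_bot.mpr rfl
  -- `A` normalizes `K`
  have hnormK : ∀ a ∈ A, ∀ y ∈ ⁅R, A⁆, a * y * a⁻¹ ∈ ⁅R, A⁆ := by
    intro a ha
    have hle : ⁅R, A⁆ ≤ (⁅R, A⁆).comap (MulAut.conj a).toMonoidHom := by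
      rw [Subgroup.commutator_le]
      intro r hr b hb
      rw [Subgroup.mem_comap]
      have h1 : (MulAut.conj a).toMonoidHom ⁅r, b⁆
          = ⁅a * r * a⁻¹, a * b * a⁻¹⁆ := by
        simp only [MulEquiv.toMonoidHom_eq_coe, MonoidHom.coe_coe, MulAut.conj_apply,
          commutatorElement_def]
        group
      rw [h1]
      refine Subgroup.commutator_mem_commutator ?_ ?_
      · exact (Subgroup.mem_set_normalizer_iff.mp (hA ha) r).mp hr
      · exact A.mul_mem (A.mul_mem ha hb) (A.inv_mem ha)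
    intro y hy
    have := hle hy
    rw [Subgroup.mem_comap] at this
    simpa [MulAut.conj_apply] using this
  have hconj : ∀ a ∈ A, ∃ u : ℕ, a * k0 * a⁻¹ = k0 ^ u := by
    intro a ha
    obtain ⟨u, hu⟩ := hgen' _ (hnormK a ha k0 hk0K)
    exact ⟨u, hu.symm⟩
  -- faithfulness on `K`
  have hkey : ∀ a ∈ A, a * k0 = k0 * a → a = 1 := by
    intro a ha hak
    apply hfaith a ha
    have hRle : R ≤ Subgroup.centralizer ({a} : Set G) := by
      rw [← hsup]
      refine sup_le ?_ ?_
      · intro y hy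
        obtain ⟨n, rfl⟩ := hgen' y hy
        rw [Subgroup.mem_centralizer_iff]
        intro h hh
        rw [Set.mem_singleton_iff] at hh
        subst hh
        exact ((show Commute h k0 from hak).pow_right n)
      · intro y hy
        rw [Subgroup.mem_centralizer_iff]
        intro h hh
        rw [Set.mem_singleton_iff] at hh
        subst hh
        exact Subgroup.mem_centralizer_iff.mp hy.2 h ha
    intro r hr
    exact Subgroup.mem_centralizer_iff.mp (hRle hr) a rfl
  refine ⟨?_, ?_⟩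
  · intro a ha b hb
    obtain ⟨u, hu⟩ := hconj a ha
    obtain ⟨v, hv⟩ := hconj b hb
    have h1 : (a * b) * k0 * (a * b)⁻¹ = k0 ^ (u * v) := by
      have : (a * b) * k0 * (a * b)⁻¹ = a * (b * k0 * b⁻¹) * a⁻¹ := by group
      rw [this, hv, ← conj_pow, hu, ← pow_mul]
    have h2 : (b * a) * k0 * (b * a)⁻¹ = k0 ^ (u * v) := by
      have : (b * a) * k0 * (b * a)⁻¹ = b * (a * k0 * a⁻¹) * b⁻¹ := by group
      rw [this, hu, ← conj_pow, hv, ← pow_mul, mul_comm]
    have h3 : (b * a)⁻¹ * (a * b) = 1 := by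
      apply hkey _ (A.mul_mem (A.inv_mem (A.mul_mem hb ha)) (A.mul_mem ha hb))
      have e1 : (a * b) * k0 = k0 ^ (u * v) * (a * b) := by
        rw [← h1]; group
      have e2 : (b * a) * k0 = k0 ^ (u * v) * (b * a) := by
        rw [← h2]; group
      have e3 : (b * a)⁻¹ * k0 ^ (u * v) = k0 * (b * a)⁻¹ := by
        rw [inv_mul_eq_iff_eq_mul, ← mul_assoc, e2, mul_assoc, mul_inv_cancel, mul_one]
      calc (b * a)⁻¹ * (a * b) * k0 = (b * a)⁻¹ * ((a * b) * k0) := by group
        _ = (b * a)⁻¹ * k0 ^ (u * v) * (a * b) := by rw [e1, mul_assoc]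
        _ = k0 * ((b * a)⁻¹ * (a * b)) := by rw [e3, mul_assoc]
    calc a * b = (b * a) * ((b * a)⁻¹ * (a * b)) := by group
      _ = b * a := by rw [h3, mul_one]
  · intro a ha
    obtain ⟨u, hu⟩ := hconj a ha
    -- order of `k0`
    obtain ⟨e0, he0⟩ := hR ⟨k0, hKR hk0K⟩
    have he0' : k0 ^ p ^ e0 = 1 := by simpa using congrArg Subtype.val he0
    obtain ⟨e, -, he⟩ := (Nat.dvd_prime_pow hpp).mp (orderOf_dvd_of_pow_eq_one he0')
    have he1 : 0 < e := by
      rcases Nat.eq_zero_or_pos e with h0 | h0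
      · exfalso
        rw [h0, pow_zero, orderOf_eq_one_iff] at he
        exact hk0ne he
      · exact h0
    -- `u` is coprime to the order
    have hord : orderOf (a * k0 * a⁻¹) = orderOf k0 := by
      have := orderOf_injective (MulAut.conj a).toMonoidHom (MulAut.conj a).injective k0
      simpa [MulAut.conj_apply] using this
    have hcopu : Nat.Coprime u (p ^ e) := by
      rw [hu, orderOf_pow, he] at hord
      have hpos : 0 < p ^ e := pow_pos hpp.pos e
      have hg : Nat.gcd (p ^ e) u = 1 := by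
        have hd : Nat.gcd (p ^ e) u ∣ p ^ e := Nat.gcd_dvd_left _ _
        obtain ⟨c, hc⟩ := hd
        have hgpos : 0 < Nat.gcd (p ^ e) u := Nat.gcd_pos_of_pos_left _ hpos
        have h5 : p ^ e / Nat.gcd (p ^ e) u = c := Nat.div_eq_of_eq_mul_right hgpos hc
        rw [h5] at hord
        have hcpos : 0 < c := by rw [hord]; exact hpos
        have : Nat.gcd (p ^ e) u * c = 1 * c := by rw [one_mul, ← hc, hord]
        exact Nat.eq_of_mul_eq_mul_right hcpos this
      exact (Nat.coprime_comm.mp hg)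
    have hmod : u ^ Nat.totient (p ^ e) ≡ 1 [MOD p ^ e] := Nat.ModEq.pow_totient hcopu
    have htot : Nat.totient (p ^ e) = p ^ (e - 1) * (p - 1) := Nat.totient_prime_pow hpp he1
    have h6 : a ^ (p ^ (e - 1) * (p - 1)) * k0 * (a ^ (p ^ (e - 1) * (p - 1)))⁻¹ = k0 := by
      rw [conj_pow_iter a k0 u hu, ← htot]
      have : k0 ^ u ^ Nat.totient (p ^ e) = k0 ^ 1 := by
        rw [pow_eq_pow_iff_modEq, he]
        exact hmod
      rw [this, pow_one]
    have h7 : a ^ (p ^ (e - 1) * (p - 1)) = 1 := by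
      apply hkey _ (A.pow_mem ha _)
      conv_rhs => rw [← h6]
      group
    have h8 : (a ^ (p - 1)) ^ (p ^ (e - 1)) = 1 := by
      rw [← pow_mul, mul_comm]; exact h7
    have h9 : orderOf (a ^ (p - 1)) ∣ p ^ (e - 1) := orderOf_dvd_of_pow_eq_one h8
    have h10 : orderOf (a ^ (p - 1)) ∣ Nat.card A :=
      Subgroup.orderOf_dvd_natCard A (A.pow_mem ha _)
    have h11 : Nat.Coprime (Nat.card A) (p ^ (e - 1)) := Nat.Coprime.pow_right _ hcop
    have h12 : orderOf (a ^ (p - 1)) = 1 :=
      Nat.eq_one_of_dvd_coprimes h11 h10 h9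
    exact orderOf_eq_one_iff.mp h12

/-- **P4.** A subgroup of `Aut S` of order coprime to `p`, for `S` a non-abelian metacyclic
`p`-group with `p` odd, is abelian of exponent dividing `p - 1`. -/
theorem metaAut {S : Type*} [Group S] [Finite S] (p : ℕ) [Fact p.Prime] (hp : p ≠ 2)
    (hS : IsPGroup p S) (hm : Cfsg.IsMetacyclic S) (hna : ¬ IsMulCommutative S)
    (H : Subgroup (MulAut S)) (hH : (Nat.card H).Coprime p) :
    IsMulCommutative H ∧ ∀ h ∈ H, h ^ (p - 1) = 1 := by
  classical
  have hfinH : Finite H := inferInstance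
  have hfinΓ : Finite (S ⋊[H.subtype] H) := Finite.of_equiv _ SemidirectProduct.equivProd.symm
  have hinlinj : Function.Injective (SemidirectProduct.inl : S →* S ⋊[H.subtype] H) :=
    SemidirectProduct.inl_injective
  have hinrinj : Function.Injective (SemidirectProduct.inr : H →* S ⋊[H.subtype] H) :=
    SemidirectProduct.inr_injective
  have hR : IsPGroup p ↥(SemidirectProduct.inl : S →* S ⋊[H.subtype] H).range :=
    IsPGroup.of_surjective hS (SemidirectProduct.inl : S →* S ⋊[H.subtype] H).rangeRestrict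
      (MonoidHom.rangeRestrict_surjective _)
  have hRm : Cfsg.IsMetacyclic ↥(SemidirectProduct.inl : S →* S ⋊[H.subtype] H).range :=
    Cfsg.Agent.S1447.isMetacyclic_of_injective hm
      (MonoidHom.ofInjective hinlinj).symm.toMonoidHom
      (MonoidHom.ofInjective hinlinj).symm.injective
  have hA : (SemidirectProduct.inr : H →* S ⋊[H.subtype] H).range ≤
      Subgroup.normalizer
        (((SemidirectProduct.inl : S →* S ⋊[H.subtype] H).range : Subgroup _) : Set _) := by
    have hnormal : ((SemidirectProduct.inl : S →* S ⋊[H.subtype] H).range).Normal := by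
      rw [SemidirectProduct.range_inl_eq_ker_rightHom]; infer_instance
    rw [Subgroup.normalizer_eq_top]
    exact le_top
  have hcop : (Nat.card ↥(SemidirectProduct.inr : H →* S ⋊[H.subtype] H).range).Coprime p := by
    have : Nat.card ↥(SemidirectProduct.inr : H →* S ⋊[H.subtype] H).range = Nat.card H :=
      Nat.card_congr (MonoidHom.ofInjective hinrinj).symm.toEquiv
    rw [this]; exact hH
  have hRna : ¬ IsMulCommutative ↥(SemidirectProduct.inl : S →* S ⋊[H.subtype] H).range := by
    intro hc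
    apply hna
    refine ⟨⟨fun s t => ?_⟩⟩
    have := hc.is_comm.comm
      (⟨SemidirectProduct.inl s, s, rfl⟩ :
        ↥(SemidirectProduct.inl : S →* S ⋊[H.subtype] H).range)
      ⟨SemidirectProduct.inl t, t, rfl⟩
    have h2 := congrArg Subtype.val this
    simp only [Subgroup.coe_mul, ← map_mul] at h2
    exact hinlinj h2
  have hfaith : ∀ a ∈ (SemidirectProduct.inr : H →* S ⋊[H.subtype] H).range,
      (∀ r ∈ (SemidirectProduct.inl : S →* S ⋊[H.subtype] H).range, a * r = r * a) → a = 1 := by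
    rintro _ ⟨g, rfl⟩ hg
    have hg1 : g = 1 := by
      apply Subtype.ext
      apply MulEquiv.ext
      intro s
      have h1 := hg (SemidirectProduct.inl s) ⟨s, rfl⟩
      have h2 : (SemidirectProduct.inl ((H.subtype g) s) : S ⋊[H.subtype] H)
          = SemidirectProduct.inl s := by
        rw [SemidirectProduct.inl_aut, h1, mul_assoc, ← map_mul, mul_inv_cancel, map_one,
          mul_one]
      have h3 := hinlinj h2
      simpa using h3
    rw [hg1, map_one]
  obtain ⟨hc, he⟩ := internal p hp _ _ hR hRm hA hcop hRna hfaith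
  refine ⟨⟨⟨fun g1 g2 => ?_⟩⟩, fun h hh => ?_⟩
  · have := hc (SemidirectProduct.inr g1) ⟨g1, rfl⟩ (SemidirectProduct.inr g2) ⟨g2, rfl⟩
    rw [← map_mul, ← map_mul] at this
    exact hinrinj this
  · have := he (SemidirectProduct.inr ⟨h, hh⟩) ⟨⟨h, hh⟩, rfl⟩
    rw [← map_pow, ← map_one (SemidirectProduct.inr : H →* S ⋊[H.subtype] H)] at this
    have h2 := hinrinj this
    simpa using congrArg Subtype.val h2

end Cfsg.Agent.Lib.Helper63.MetaAut
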