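import Mathlib
import Cfsg.Agent.Lib.Lead.OrdTypeStmt

/-!
# S3998 piece CNTSYL (helper63)

If `p` is the largest prime of `|X|` and the Sylow `p`-subgroup `P` is normal, then the `p`-rough
elements are exactly the elements of `P`.
-/

set_option autoImplicit false

universe u

namespace Cfsg.Agent.Lib.Helper63.OTCNTSYL

open Cfsg.Agent.Lib.Lead.OrdTypeStmt

theorem rough_eq (X : Type u) [Group X] [Finite X] (p : ℕ) [Fact p.Prime]
    (hmax : ∀ q : ℕ, q.Prime → q ∣ Nat.card X → q ≤ p)
    (P : Sylow p X) (hP : (P : Subgroup X).Normal) :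
    rough X p = ((P : Subgroup X) : Set X) := by
  have hp : p.Prime := Fact.out
  ext x
  constructor
  · intro hx
    have hord : ∀ {d : ℕ}, d.Prime → d ∣ orderOf x → d = p := by
      intro d hd hdx
      exact le_antisymm (hmax d hd (hdx.trans (orderOf_dvd_natCard x))) (hx d hd hdx)
    have hpow : orderOf x = p ^ (orderOf x).primeFactorsList.length :=
      Nat.eq_prime_pow_of_unique_prime_dvd (orderOf_pos x).ne' hord
    have hpg : IsPGroup p ↥(Subgroup.zpowers x) :=
      IsPGroup.of_card (n := (orderOf x).primeFactorsList.length)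
        (by rw [Nat.card_zpowers]; exact hpow)
    obtain ⟨Q, hQ⟩ := hpg.exists_le_sylow
    obtain ⟨g, hg⟩ := MulAction.exists_smul_eq X P Q
    have hQP : Q = P := by
      rw [← hg]
      exact Sylow.smul_eq_of_normal
    have hxQ : x ∈ (Q : Subgroup X) := hQ (Subgroup.mem_zpowers x)
    rw [hQP] at hxQ
    exact hxQ
  · intro hx q hq hqd
    obtain ⟨k, hk⟩ := P.isPGroup' ⟨x, hx⟩
    have h1 : x ^ p ^ k = 1 := by
      have h2 := congrArg Subtype.val hk
      simpa using h2
    have h3 : q ∣ p ^ k := hqd.trans (orderOf_dvd_of_pow_eq_one h1)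
    have h4 : q ∣ p := hq.dvd_of_dvd_pow h3
    exact le_of_eq ((Nat.prime_dvd_prime_iff_eq hq hp).mp h4).symm

theorem main : CntSyl.{u} := by
  intro X _ _ p _ hmax P hP
  unfold cnt
  rw [rough_eq X p hmax P hP]
  rfl

end Cfsg.Agent.Lib.Helper63.OTCNTSYL
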