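import Mathlib
import Cfsg.Agent.Lib.Helper18.ReeOutStmt

set_option autoImplicit false

/-!
helper63: S2127 piece ASMMEM (the automorphisms `conj (e s) ∘ F^i` stabilize `P` and `Q`).
-/

namespace Cfsg.Agent.Lib.Helper63.ReeOutASMMEM

universe u v

open Cfsg.Agent.Lib.Helper18.ReeOutStmt

/-- An automorphism of a finite group mapping a subgroup into itself maps it onto itself. -/
theorem iff_mem {G : Type u} [Group G] [Finite G] (S : Subgroup G) (α : MulAut G)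
    (h : ∀ g ∈ S, α g ∈ S) : ∀ g, α g ∈ S ↔ g ∈ S := by
  intro g
  refine ⟨fun hg => ?_, h g⟩
  have hinj : Function.Injective (fun s : S => (⟨α s, h s s.2⟩ : S)) := by
    intro a b hab
    exact Subtype.ext (α.injective (congrArg Subtype.val hab))
  obtain ⟨⟨g', hg'⟩, hg''⟩ := (Finite.injective_iff_surjective.mp hinj) ⟨α g, hg⟩
  have h1 : α g' = α g := congrArg Subtype.val hg''
  rw [← α.injective h1]
  exact hg'

/-- Conjugation by an element of `N(S)` stabilizes `S`. -/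
theorem conj_iff {G : Type u} [Group G] (S : Subgroup G) {g : G}
    (hg : g ∈ Subgroup.normalizer (S : Set G)) : ∀ h, MulAut.conj g h ∈ S ↔ h ∈ S := by
  intro h
  rw [MulAut.conj_apply]
  exact (Subgroup.mem_normalizer_iff.mp hg h).symm

theorem main : ASMMEM.{u, v} := by
  intro G _ _ K _ _ m φ x e P Q H F hS s hs i
  haveI : Fact (Nat.Prime 3) := ⟨by norm_num⟩
  -- conjugation by `e s`
  have heH : e s ∈ H := (hS.memH _).mpr ⟨s, hs, rfl⟩
  have heN : e s ∈ Subgroup.normalizer ((P : Subgroup G) : Set G) ⊓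
      Subgroup.normalizer ((Q : Subgroup G) : Set G) := by
    rw [hS.norm]
    exact heH
  have hconj : MulAut.conj (e s) ∈ A0 (P : Subgroup G) (Q : Subgroup G) :=
    ⟨conj_iff _ heN.1, conj_iff _ heN.2⟩
  -- `F`
  have hFP : ∀ g, F g ∈ (P : Subgroup G) ↔ g ∈ (P : Subgroup G) := by
    apply iff_mem
    intro g hg
    obtain ⟨t, u, v, rfl⟩ := (hS.memP g).mp hg
    rw [hS.Fx]
    exact (hS.memP _).mpr ⟨_, _, _, rfl⟩
  have hFH : ∀ g, F g ∈ H ↔ g ∈ H := by
    apply iff_mem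
    intro g hg
    obtain ⟨r, hr, rfl⟩ := (hS.memH g).mp hg
    rw [hS.Fe r hr]
    exact (hS.memH _).mpr ⟨r ^ 3, pow_ne_zero 3 hr, rfl⟩
  have hmemFQ : ∀ g, g ∈ ((F • Q : Sylow 3 G) : Subgroup G) ↔ ∃ u ∈ (Q : Subgroup G), F u = g := by
    intro g
    rw [Sylow.pointwise_smul_def, Subgroup.mem_smul_pointwise_iff_exists]
    rfl
  have hFQne : F • Q ≠ P := by
    intro h
    apply hS.QP
    have hle : (Q : Subgroup G) ≤ (P : Subgroup G) := by
      intro g hg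
      have h1 : F g ∈ ((F • Q : Sylow 3 G) : Subgroup G) := (hmemFQ _).mpr ⟨g, hg, rfl⟩
      rw [h] at h1
      exact (hFP g).mp h1
    exact Sylow.ext (Q.is_maximal' P.isPGroup' hle).symm
  have hFQnorm : ∀ h ∈ H, ∀ u ∈ ((F • Q : Sylow 3 G) : Subgroup G),
      h * u * h⁻¹ ∈ ((F • Q : Sylow 3 G) : Subgroup G) := by
    intro h hh u hu
    obtain ⟨u₀, hu₀, rfl⟩ := (hmemFQ _).mp hu
    have hh₀ : F⁻¹ h ∈ H := by
      rw [← hFH, MulAut.apply_inv_self]
      exact hh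
    refine (hmemFQ _).mpr ⟨F⁻¹ h * u₀ * (F⁻¹ h)⁻¹, hS.normQ _ hh₀ _ hu₀, ?_⟩
    rw [map_mul, map_mul, map_inv, MulAut.apply_inv_self]
  have hFQ : F • Q = Q := hS.uniq (F • Q) hFQne hFQnorm
  have hFQ' : ∀ g, F g ∈ (Q : Subgroup G) ↔ g ∈ (Q : Subgroup G) := by
    apply iff_mem
    intro g hg
    have h1 : F g ∈ ((F • Q : Sylow 3 G) : Subgroup G) := (hmemFQ _).mpr ⟨g, hg, rfl⟩
    rw [hFQ] at h1
    exact h1
  have hF : F ∈ A0 (P : Subgroup G) (Q : Subgroup G) := ⟨hFP, hFQ'⟩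
  exact Subgroup.mul_mem _ hconj (Subgroup.pow_mem _ hF i)

end Cfsg.Agent.Lib.Helper63.ReeOutASMMEM
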