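import Mathlib
import Cfsg.Agent.Lib.Helper18.ReeOutStmt

set_option autoImplicit false

/-!
helper63: S2127 piece HSUB (`{e s : s ≠ 0}` is an abelian subgroup of order `q - 1`).
-/

namespace Cfsg.Agent.Lib.Helper63.ReeOutHSUB

universe u v

open Cfsg.Agent.Lib.Helper18.ReeOutStmt

theorem e_one {G : Type u} [Group G] {K : Type v} [Field K] [Fintype K] {m : ℕ}
    {φ : K →+* K} {x : K → K → K → G} {e : K → G} (hp : OPar G K m φ x e) : e 1 = 1 := by
  have h := hp.e_mul 1 1 one_ne_zero one_ne_zero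
  rw [mul_one] at h
  exact (mul_eq_left).mp h.symm

theorem e_inv {G : Type u} [Group G] {K : Type v} [Field K] [Fintype K] {m : ℕ}
    {φ : K →+* K} {x : K → K → K → G} {e : K → G} (hp : OPar G K m φ x e) {s : K} (hs : s ≠ 0) :
    (e s)⁻¹ = e s⁻¹ := by
  have h := hp.e_mul s⁻¹ s (inv_ne_zero hs) hs
  rw [inv_mul_cancel₀ hs, e_one hp] at h
  exact (eq_inv_of_mul_eq_one_left h.symm).symm

/-- the torus as a subgroup -/
def torus {G : Type u} [Group G] {K : Type v} [Field K] [Fintype K] {m : ℕ}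
    {φ : K →+* K} {x : K → K → K → G} {e : K → G} (hp : OPar G K m φ x e) : Subgroup G where
  carrier := {g | ∃ s, s ≠ 0 ∧ g = e s}
  mul_mem' := by
    rintro a b ⟨s, hs, rfl⟩ ⟨s', hs', rfl⟩
    exact ⟨s * s', mul_ne_zero hs hs', (hp.e_mul s s' hs hs').symm⟩
  one_mem' := ⟨1, one_ne_zero, (e_one hp).symm⟩
  inv_mem' := by
    rintro a ⟨s, hs, rfl⟩
    exact ⟨s⁻¹, inv_ne_zero hs, e_inv hp hs⟩

theorem main : HSUB.{u, v} := by
  intro G _ _ K _ _ m φ x e hp
  classical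
  refine ⟨torus hp, fun g => Iff.rfl, ?_, ?_⟩
  · have hbij : Function.Bijective
        (fun s : Kˣ => (⟨e (s : K), ⟨(s : K), s.ne_zero, rfl⟩⟩ : ↥(torus hp))) := by
      constructor
      · intro s s' h
        have h1 : e (s : K) = e (s' : K) := congrArg Subtype.val h
        exact Units.ext (hp.e_inj _ _ s.ne_zero s'.ne_zero h1)
      · rintro ⟨g, s, hs, rfl⟩
        exact ⟨Units.mk0 s hs, rfl⟩
    rw [← Nat.card_congr (Equiv.ofBijective _ hbij), Nat.card_eq_fintype_card,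
      Fintype.card_units, hp.cardK]
  · rintro h ⟨s, hs, rfl⟩ k ⟨s', hs', rfl⟩
    rw [← hp.e_mul s s' hs hs', ← hp.e_mul s' s hs' hs, mul_comm]

end Cfsg.Agent.Lib.Helper63.ReeOutHSUB
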