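import Mathlib
import Cfsg.Agent.Lib.Helper18.ReeOutStmt
import Cfsg.Agent.Lib.Helper63.ReeOutHSUB
import Cfsg.Agent.Lib.Helper63.ReeOutSYLU

set_option autoImplicit false

/-!
helper63: S2127 piece NSYL (at most `q³ + 1` Sylow 3-subgroups, at least two).
-/

namespace Cfsg.Agent.Lib.Helper63.ReeOutNSYL

universe u v

open Cfsg.Agent.Lib.Helper18.ReeOutStmt Cfsg.Agent.Lib.Helper63.ReeOutHSUB
  Cfsg.Agent.Lib.Helper63.ReeOutSYLU

section

variable {G : Type u} [Group G] {K : Type v} [Field K] [Fintype K] {m : ℕ}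
  {φ : K →+* K} {x : K → K → K → G} {e : K → G}

theorem conj_e (hp : OPar G K m φ x e) {s : K} (hs : s ≠ 0) (t u v : K) :
    e s * x t u v * (e s)⁻¹ = x (s ^ 2 / φ s ^ 3 * t) (φ s ^ 3 / s * u) (s * v) := by
  rw [hp.e_x s hs, mul_assoc, mul_inv_cancel, mul_one]

/-- `e r` lies in `{x t u v}` only for `r = 1`. -/
theorem e_eq_x (hp : OPar G K m φ x e) {r a b c : K} (hr : r ≠ 0) (h : e r = x a b c) :
    r = 1 := by
  have h1 := hp.e_x r hr 0 0 1
  rw [h, hp.x_mul, hp.x_mul] at h1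
  obtain ⟨-, -, h3⟩ := hp.x_inj _ _ _ _ _ _ h1
  simp only [mul_zero, zero_mul, map_zero, mul_one, sub_zero, add_zero, ne_eq,
    OfNat.ofNat_ne_zero, not_false_eq_true, zero_pow] at h3
  linear_combination -h3

theorem e_mem_normalizer (hp : OPar G K m φ x e) (P : Subgroup G)
    (hP : ∀ g : G, g ∈ P ↔ ∃ t u v, g = x t u v) {s : K} (hs : s ≠ 0) :
    e s ∈ Subgroup.normalizer (P : Set G) := by
  rw [Subgroup.mem_normalizer_iff]
  intro h
  constructor
  · intro hh
    obtain ⟨t, u, v, rfl⟩ := (hP h).mp hh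
    rw [conj_e hp hs]
    exact (hP _).mpr ⟨_, _, _, rfl⟩
  · intro hh
    obtain ⟨t, u, v, h1⟩ := (hP _).mp hh
    have h2 : h = e s⁻¹ * x t u v * (e s⁻¹)⁻¹ := by
      rw [← h1, ← e_inv hp hs, inv_inv]
      group
    rw [h2, conj_e hp (inv_ne_zero hs)]
    exact (hP _).mpr ⟨_, _, _, rfl⟩

end

theorem main : NSYL.{u, v} := by
  intro G _ _ K _ _ m φ x e hp hG hsimple P hP
  classical
  haveI : Fact (Nat.Prime 3) := ⟨by norm_num⟩
  constructor
  · -- the injection `(t, u, v, s) ↦ x t u v * e s` into `N(P)`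
    have hmem : ∀ p : K × K × K × Kˣ, x p.1 p.2.1 p.2.2.1 * e (p.2.2.2 : K) ∈
        Subgroup.normalizer ((P : Subgroup G) : Set G) := by
      intro p
      exact Subgroup.mul_mem _ (Subgroup.le_normalizer ((hP _).mpr ⟨_, _, _, rfl⟩))
        (e_mem_normalizer hp (P : Subgroup G) hP p.2.2.2.ne_zero)
    have hinj : Function.Injective (fun p : K × K × K × Kˣ =>
        (⟨x p.1 p.2.1 p.2.2.1 * e (p.2.2.2 : K), hmem p⟩ :
          ↥(Subgroup.normalizer ((P : Subgroup G) : Set G)))) := by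
      rintro ⟨t, u, v, s⟩ ⟨t', u', v', s'⟩ h
      have h1 : x t u v * e (s : K) = x t' u' v' * e (s' : K) := congrArg Subtype.val h
      have h2 : e ((s' : K) * (s : K)⁻¹) = (x t' u' v')⁻¹ * x t u v := by
        rw [hp.e_mul _ _ s'.ne_zero (inv_ne_zero s.ne_zero), ← e_inv hp s.ne_zero]
        rw [eq_inv_mul_iff_mul_eq, ← mul_assoc, ← h1]
        group
      have h3 : (x t' u' v')⁻¹ * x t u v ∈ (P : Subgroup G) :=
        Subgroup.mul_mem _ (Subgroup.inv_mem _ ((hP _).mpr ⟨_, _, _, rfl⟩))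
          ((hP _).mpr ⟨_, _, _, rfl⟩)
      obtain ⟨a, b, c, h4⟩ := (hP _).mp h3
      have h5 : (s' : K) * (s : K)⁻¹ = 1 :=
        e_eq_x hp (mul_ne_zero s'.ne_zero (inv_ne_zero s.ne_zero)) (h2.trans h4)
      have h6 : (s' : K) = (s : K) := by
        field_simp at h5
        exact h5
      have h7 : s' = s := Units.ext h6
      subst h7
      have h8 : x t u v = x t' u' v' := mul_right_cancel h1
      obtain ⟨e1, e2, e3⟩ := hp.x_inj _ _ _ _ _ _ h8
      rw [e1, e2, e3]
    have hcard : (3 ^ (2 * m + 1)) ^ 3 * (3 ^ (2 * m + 1) - 1) ≤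
        Nat.card ↥(Subgroup.normalizer ((P : Subgroup G) : Set G)) := by
      have h1 := Nat.card_le_card_of_injective _ hinj
      rw [Nat.card_prod, Nat.card_prod, Nat.card_prod, Nat.card_eq_fintype_card,
        Nat.card_eq_fintype_card, Fintype.card_units, hp.cardK] at h1
      calc (3 ^ (2 * m + 1)) ^ 3 * (3 ^ (2 * m + 1) - 1)
          = 3 ^ (2 * m + 1) * (3 ^ (2 * m + 1) * (3 ^ (2 * m + 1) * (3 ^ (2 * m + 1) - 1))) := by
            ring
        _ ≤ _ := h1
    rw [Sylow.card_eq_index_normalizer P]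
    have h2 := Subgroup.card_mul_index (Subgroup.normalizer ((P : Subgroup G) : Set G))
    have hpos : 0 < (3 ^ (2 * m + 1)) ^ 3 * (3 ^ (2 * m + 1) - 1) := by
      apply Nat.mul_pos (by positivity)
      have : 3 ^ 1 ≤ 3 ^ (2 * m + 1) := Nat.pow_le_pow_right (by norm_num) (by omega)
      omega
    apply Nat.le_of_mul_le_mul_left _ hpos
    calc (3 ^ (2 * m + 1)) ^ 3 * (3 ^ (2 * m + 1) - 1) *
          (Subgroup.normalizer ((P : Subgroup G) : Set G)).index
        ≤ Nat.card ↥(Subgroup.normalizer ((P : Subgroup G) : Set G)) *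
          (Subgroup.normalizer ((P : Subgroup G) : Set G)).index :=
          Nat.mul_le_mul_right _ hcard
      _ = Nat.card G := h2
      _ = _ := hG
  · by_contra hno
    have hno : ∀ Q : Sylow 3 G, Q = P := fun Q => by
      by_contra hQ
      exact hno ⟨Q, hQ⟩
    have hn : Subgroup.normalizer ((P : Subgroup G) : Set G) = ⊤ := by
      rw [eq_top_iff]
      intro g _
      exact Sylow.smul_eq_iff_mem_normalizer.mp (hno (g • P))
    have hnormal : (P : Subgroup G).Normal := Subgroup.normalizer_eq_top_iff.mp hn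
    rcases hnormal.eq_bot_or_eq_top with h | h
    · have h1 : x 1 0 0 ∈ (P : Subgroup G) := (hP _).mpr ⟨_, _, _, rfl⟩
      rw [h, Subgroup.mem_bot, ← x_zero hp] at h1
      exact one_ne_zero (hp.x_inj _ _ _ _ _ _ h1).1
    · have h1 : e (-1 : K) ∈ (P : Subgroup G) := by
        rw [h]
        exact Subgroup.mem_top _
      obtain ⟨a, b, c, h2⟩ := (hP _).mp h1
      have h3 : (-1 : K) = 1 := e_eq_x hp (neg_ne_zero.mpr one_ne_zero) h2
      have h4 : (1 : K) = 0 := by
        have := hp.char3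
        linear_combination this + h3
      exact one_ne_zero h4

end Cfsg.Agent.Lib.Helper63.ReeOutNSYL
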