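import Mathlib

/-!
# Groups all of whose 2-elements are 2-central have abelian Sylow 2-subgroups

`Hyp G`: every element of 2-power order is centralized by a Sylow 2-subgroup.
Main result `comm_of_hyp`: under `Hyp G`, any two elements of a Sylow 2-subgroup commute.

Proof.  (A) a 2-element conjugate to its inverse is an involution (else the normalizer of
its centralizer would make the class size even).  (B) hence involutions in a common 2-group
commute.  (L) for a 2-element `x` and a 2-subgroup `A` centralizing `x * x` there are a Sylow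
2-subgroup `T ≥ A` and `w` central in `T` with `w * w = x * x`.  (1) involutions of a Sylow
2-subgroup are central in it; (2) all its elements are.
-/

set_option autoImplicit false

namespace Cfsg.Agent.Lib.Helper63.TwoCentral

open scoped Pointwise

variable {G : Type*} [Group G]

/-- every element of 2-power order is centralized by a Sylow 2-subgroup -/
def Hyp (G : Type*) [Group G] : Prop :=
  ∀ x : G, (∃ k : ℕ, orderOf x = 2 ^ k) →
    ∃ Q : Sylow 2 G, (Q : Subgroup G) ≤ Subgroup.centralizer ({x} : Set G)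

theorem isPGroup_zpowers (y : G) (k : ℕ) (hy : y ^ (2 ^ k) = 1) :
    IsPGroup 2 (Subgroup.zpowers y) := by
  rintro ⟨w, hw⟩
  obtain ⟨j, rfl⟩ := Subgroup.mem_zpowers_iff.mp hw
  refine ⟨k, Subtype.ext ?_⟩
  simp only [Subgroup.coe_pow, Subgroup.coe_one]
  rw [← zpow_natCast, ← zpow_mul, mul_comm, zpow_mul, zpow_natCast, hy, one_zpow]

theorem is2_of_isPGroup {Q : Subgroup G} (hQ : IsPGroup 2 Q) {x : G} (hx : x ∈ Q) :
    ∃ k : ℕ, orderOf x = 2 ^ k := by
  obtain ⟨k, hk⟩ := hQ ⟨x, hx⟩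
  have hk' : x ^ (2 ^ k) = 1 := by simpa using congrArg Subtype.val hk
  obtain ⟨j, _, hj⟩ := (Nat.dvd_prime_pow Nat.prime_two).mp (orderOf_dvd_of_pow_eq_one hk')
  exact ⟨j, hj⟩

theorem mem_smul_iff {P : Sylow 2 G} {c y : G} : y ∈ c • P ↔ c⁻¹ * y * c ∈ P := by
  constructor
  · intro h
    have h1 : y ∈ MulAut.conj c • (P : Subgroup G) := h
    rw [Subgroup.mem_pointwise_smul_iff_inv_smul_mem] at h1
    have h2 : c⁻¹ * y * c ∈ (P : Subgroup G) := by simpa [MulAut.smul_def] using h1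
    exact h2
  · intro h
    have h1 : y ∈ MulAut.conj c • (P : Subgroup G) := by
      rw [Subgroup.mem_pointwise_smul_iff_inv_smul_mem]
      have h2 : c⁻¹ * y * c ∈ (P : Subgroup G) := h
      simpa [MulAut.smul_def] using h2
    exact h1

theorem comm_of_le_centralizer {Q : Subgroup G} {x : G}
    (hQ : Q ≤ Subgroup.centralizer ({x} : Set G)) {q : G} (hq : q ∈ Q) : x * q = q * x := by
  have := hQ hq
  rw [Subgroup.mem_centralizer_iff] at this
  exact this x rfl

/-- a 2-element centralized by a Sylow 2-subgroup lies in it -/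
theorem mem_of_le_centralizer (Q : Sylow 2 G) {x : G} (hx : ∃ k : ℕ, orderOf x = 2 ^ k)
    (hQ : (Q : Subgroup G) ≤ Subgroup.centralizer ({x} : Set G)) : x ∈ Q := by
  obtain ⟨k, hk⟩ := hx
  have hz : IsPGroup 2 (Subgroup.zpowers x) :=
    isPGroup_zpowers x k (by rw [← hk]; exact pow_orderOf_eq_one x)
  have hn : Subgroup.zpowers x ≤ Subgroup.normalizer ((Q : Subgroup G) : Set G) := by
    refine le_trans ?_ (Subgroup.centralizer_le_normalizer _)
    rw [Subgroup.zpowers_le, Subgroup.mem_centralizer_iff]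
    intro q hq
    exact (comm_of_le_centralizer hQ hq).symm
  have hsup : IsPGroup 2 ((Q : Subgroup G) ⊔ Subgroup.zpowers x : Subgroup G) :=
    IsPGroup.to_sup_of_normal_left' Q.isPGroup' hz hn
  have h1 := Q.is_maximal' hsup le_sup_left
  have h2 : x ∈ (Q : Subgroup G) ⊔ Subgroup.zpowers x :=
    (le_sup_right : Subgroup.zpowers x ≤ _) (Subgroup.mem_zpowers x)
  rw [h1] at h2
  exact h2

/-- (A) under `Hyp`, a 2-element conjugate to its inverse is an involution -/
theorem sq_of_conj_inv [Finite G] (hH : Hyp G) {r g : G} (hr : ∃ k : ℕ, orderOf r = 2 ^ k)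
    (hg : g * r * g⁻¹ = r⁻¹) : r * r = 1 := by
  by_contra hne
  obtain ⟨Q, hQ⟩ := hH r hr
  have hodd : ¬ 2 ∣ (Subgroup.centralizer ({r} : Set G)).index := fun h2 =>
    Q.not_dvd_index (dvd_trans h2 (Subgroup.index_dvd_of_le hQ))
  have hg' : g⁻¹ * r * g = r⁻¹ := by
    have h0 : r = g⁻¹ * r⁻¹ * g := by rw [← hg]; group
    calc g⁻¹ * r * g = (g⁻¹ * r⁻¹ * g)⁻¹ := by group
      _ = r⁻¹ := by rw [← h0]
  have hgN : g ∈ Subgroup.normalizer ((Subgroup.centralizer ({r} : Set G) : Subgroup G) : Set G) := by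
    rw [Subgroup.mem_normalizer_iff]
    intro c
    simp only [Subgroup.mem_centralizer_iff, Set.mem_singleton_iff, forall_eq]
    constructor
    · intro hc
      have hc' : r⁻¹ * c = c * r⁻¹ := by
        calc r⁻¹ * c = r⁻¹ * (c * r) * r⁻¹ := by group
          _ = r⁻¹ * (r * c) * r⁻¹ := by rw [hc]
          _ = c * r⁻¹ := by group
      calc r * (g * c * g⁻¹) = g * ((g⁻¹ * r * g) * c) * g⁻¹ := by group
        _ = g * (c * (g⁻¹ * r * g)) * g⁻¹ := by rw [hg', hc']
        _ = g * c * g⁻¹ * r := by group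
    · intro hc
      have h1 : (g * r * g⁻¹) * (g * c * g⁻¹) = (g * c * g⁻¹) * (g * r * g⁻¹) := by
        rw [hg]
        calc r⁻¹ * (g * c * g⁻¹) = r⁻¹ * ((g * c * g⁻¹) * r) * r⁻¹ := by group
          _ = r⁻¹ * (r * (g * c * g⁻¹)) * r⁻¹ := by rw [hc]
          _ = g * c * g⁻¹ * r⁻¹ := by group
      calc r * c = g⁻¹ * ((g * r * g⁻¹) * (g * c * g⁻¹)) * g := by group
        _ = g⁻¹ * ((g * c * g⁻¹) * (g * r * g⁻¹)) * g := by rw [h1]
        _ = c * r := by group
  have hgC : g ∉ Subgroup.centralizer ({r} : Set G) := by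
    intro hc
    rw [Subgroup.mem_centralizer_iff] at hc
    have h1 := hc r rfl
    apply hne
    have h2 : g * r * g⁻¹ = r := by rw [← h1]; group
    rw [hg] at h2
    calc r * r = r⁻¹ * r := by rw [h2]
      _ = 1 := by group
  have hg2 : g * g ∈ Subgroup.centralizer ({r} : Set G) := by
    rw [Subgroup.mem_centralizer_iff]
    intro y hy
    rw [Set.mem_singleton_iff] at hy
    rw [hy]
    have h1 : g * r⁻¹ * g⁻¹ = r := by
      have : g * r⁻¹ * g⁻¹ = (g * r * g⁻¹)⁻¹ := by group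
      rw [this, hg, inv_inv]
    calc r * (g * g) = (g * r⁻¹ * g⁻¹) * (g * g) := by rw [h1]
      _ = g * r⁻¹ * g := by group
      _ = g * (g * r * g⁻¹) * g := by rw [hg]
      _ = g * g * r := by group
  set C : Subgroup G := Subgroup.centralizer ({r} : Set G) with hCdef
  let N : Subgroup G := Subgroup.normalizer (C : Set G)
  have hCN : C ≤ N := Subgroup.le_normalizer
  have hCNn : (C.subgroupOf N).Normal := Subgroup.normal_in_normalizer
  let q : N ⧸ C.subgroupOf N := QuotientGroup.mk ⟨g, hgN⟩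
  have hq1 : q ≠ 1 := by
    intro h
    rw [QuotientGroup.eq_one_iff, Subgroup.mem_subgroupOf] at h
    exact hgC h
  have hq2 : q ^ 2 = 1 := by
    rw [pow_two]
    show (QuotientGroup.mk (⟨g, hgN⟩ * ⟨g, hgN⟩ : N) : N ⧸ C.subgroupOf N) = 1
    rw [QuotientGroup.eq_one_iff, Subgroup.mem_subgroupOf]
    exact hg2
  have hq : orderOf q = 2 := orderOf_eq_prime hq2 hq1
  have h2 : 2 ∣ Nat.card (N ⧸ C.subgroupOf N) := hq ▸ orderOf_dvd_natCard q
  have h3 : Nat.card (N ⧸ C.subgroupOf N) = C.relIndex N := rfl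
  rw [h3] at h2
  exact hodd (dvd_trans h2 (Dvd.intro _ (Subgroup.relIndex_mul_index hCN)))

/-- (B) under `Hyp`, involutions in a common 2-subgroup commute -/
theorem invol_comm [Finite G] (hH : Hyp G) {Q : Subgroup G} (hQ : IsPGroup 2 Q) {s t : G}
    (hs : s ∈ Q) (ht : t ∈ Q) (hs2 : s * s = 1) (ht2 : t * t = 1) : s * t = t * s := by
  have hsi : s⁻¹ = s := inv_eq_of_mul_eq_one_left hs2
  have hti : t⁻¹ = t := inv_eq_of_mul_eq_one_left ht2
  have h1 : s * (s * t) * s⁻¹ = (s * t)⁻¹ := by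
    rw [mul_inv_rev, hsi, hti, ← mul_assoc s s t, hs2, one_mul]
  have h2 := sq_of_conj_inv hH (is2_of_isPGroup hQ (Q.mul_mem hs ht)) h1
  have h3 : (s * t)⁻¹ = s * t := inv_eq_of_mul_eq_one_left h2
  rw [mul_inv_rev, hsi, hti] at h3
  exact h3.symm

/-- (L) for a 2-element `x` and a 2-subgroup `A` centralizing `x * x`, there are a Sylow
2-subgroup `T` containing `A` and an element `w` central in `T` with `w * w = x * x`. -/
theorem exists_central_sqrt [Finite G] (hH : Hyp G) {x : G} (hx : ∃ k : ℕ, orderOf x = 2 ^ k)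
    (A : Subgroup G) (hA : IsPGroup 2 A)
    (hAC : A ≤ Subgroup.centralizer ({x * x} : Set G)) :
    ∃ (T : Sylow 2 G) (w : G), A ≤ (T : Subgroup G) ∧ w ∈ T ∧ (∀ y ∈ T, y * w = w * y) ∧
      w * w = x * x := by
  obtain ⟨T₀, hT₀⟩ := hH x hx
  have hxT₀ : x ∈ T₀ := mem_of_le_centralizer T₀ hx hT₀
  have hT₀K : (T₀ : Subgroup G) ≤ Subgroup.centralizer ({x * x} : Set G) := by
    intro q hq
    have h1 := comm_of_le_centralizer hT₀ hq
    rw [Subgroup.mem_centralizer_iff]
    intro y hy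
    rw [Set.mem_singleton_iff] at hy
    subst hy
    calc x * x * q = x * (x * q) := by group
      _ = x * (q * x) := by rw [h1]
      _ = (x * q) * x := by group
      _ = q * x * x := by rw [h1]
      _ = q * (x * x) := by group
  obtain ⟨R, hR⟩ := (hA.comap_subtype (K := Subgroup.centralizer ({x * x} : Set G))).exists_le_sylow
  obtain ⟨c, hc⟩ := MulAction.exists_smul_eq (Subgroup.centralizer ({x * x} : Set G))
    (T₀.subtype hT₀K) R
  have hcx : x * x * (c : G) = (c : G) * (x * x) := by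
    have := c.2
    rw [Subgroup.mem_centralizer_iff] at this
    exact this (x * x) rfl
  have key : ∀ a ∈ A, (c : G)⁻¹ * a * (c : G) ∈ T₀ := by
    intro a ha
    have h1 : (⟨a, hAC ha⟩ : Subgroup.centralizer ({x * x} : Set G)) ∈ R := hR ha
    rw [← hc] at h1
    have h2 := mem_smul_iff.mp h1
    have this : _ ∈ (T₀ : Subgroup G).subgroupOf _ := h2
    rw [Subgroup.mem_subgroupOf] at this
    have this' : (c : G)⁻¹ * a * (c : G) ∈ (T₀ : Subgroup G) := by simpa using this
    exact this'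
  refine ⟨(c : G) • T₀, (c : G) * x * (c : G)⁻¹, ?_, ?_, ?_, ?_⟩
  · intro a ha
    exact mem_smul_iff.mpr (key a ha)
  · apply mem_smul_iff.mpr
    have e : (c : G)⁻¹ * ((c : G) * x * (c : G)⁻¹) * (c : G) = x := by group
    rw [e]; exact hxT₀
  · intro y hy
    have h1 := mem_smul_iff.mp hy
    have h2 := comm_of_le_centralizer hT₀ h1
    calc y * ((c : G) * x * (c : G)⁻¹) = (c : G) * (((c : G)⁻¹ * y * (c : G)) * x) * (c : G)⁻¹ := by
          group
      _ = (c : G) * (x * ((c : G)⁻¹ * y * (c : G))) * (c : G)⁻¹ := by rw [h2]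
      _ = (c : G) * x * (c : G)⁻¹ * y := by group
  · calc (c : G) * x * (c : G)⁻¹ * ((c : G) * x * (c : G)⁻¹) = (c : G) * (x * x) * (c : G)⁻¹ := by
          group
      _ = x * x * (c : G) * (c : G)⁻¹ := by rw [hcx]
      _ = x * x := by group

/-- (1) under `Hyp`, involutions of a Sylow 2-subgroup are central in it -/
theorem invol_central [Finite G] (hH : Hyp G) (P : Sylow 2 G) :
    ∀ k : ℕ, ∀ x ∈ P, x ^ (2 ^ k) = 1 → ∀ t ∈ P, t * t = 1 → x * t = t * x := by
  intro k
  induction k with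
  | zero =>
    intro x _ hx t _ _
    rw [pow_zero, pow_one] at hx
    rw [hx, one_mul, mul_one]
  | succ k ih =>
    intro x hxP hx t htP ht2
    have hxx : (x * x) ^ (2 ^ k) = 1 := by
      rw [← pow_two, ← pow_mul, ← pow_succ']; exact hx
    have h1 := ih (x * x) (P.1.mul_mem hxP hxP) hxx t htP ht2
    have hx2 := is2_of_isPGroup P.isPGroup' hxP
    obtain ⟨T, w, hAT, hwT, hwc, hww⟩ := exists_central_sqrt hH hx2
      ((P : Subgroup G) ⊓ Subgroup.centralizer ({x * x} : Set G))
      (P.isPGroup'.to_le inf_le_left) inf_le_right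
    have hxT : x ∈ T := hAT (Subgroup.mem_inf.mpr ⟨hxP, by
      rw [Subgroup.mem_centralizer_iff]
      intro y hy
      rw [Set.mem_singleton_iff] at hy
      subst hy
      group⟩)
    have htT : t ∈ T := hAT (Subgroup.mem_inf.mpr ⟨htP, by
      rw [Subgroup.mem_centralizer_iff]
      intro y hy
      rw [Set.mem_singleton_iff] at hy
      subst hy
      exact h1⟩)
    have hxw : x * w = w * x := hwc x hxT
    have htw : t * w = w * t := hwc t htT
    have heT : x * w⁻¹ ∈ T := T.1.mul_mem hxT (T.1.inv_mem hwT)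
    have hxw' : w⁻¹ * x = x * w⁻¹ := by
      calc w⁻¹ * x = w⁻¹ * (x * w) * w⁻¹ := by group
        _ = w⁻¹ * (w * x) * w⁻¹ := by rw [hxw]
        _ = x * w⁻¹ := by group
    have he2 : (x * w⁻¹) * (x * w⁻¹) = 1 := by
      calc (x * w⁻¹) * (x * w⁻¹) = x * (w⁻¹ * x) * w⁻¹ := by group
        _ = x * (x * w⁻¹) * w⁻¹ := by rw [hxw']
        _ = (x * x) * (w * w)⁻¹ := by group
        _ = 1 := by rw [hww]; group
    have h2 := invol_comm hH T.isPGroup' heT htT he2 ht2
    calc x * t = (x * w⁻¹) * (w * t) := by group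
      _ = (x * w⁻¹) * (t * w) := by rw [htw]
      _ = ((x * w⁻¹) * t) * w := by group
      _ = (t * (x * w⁻¹)) * w := by rw [h2]
      _ = t * x := by group

/-- (2) under `Hyp`, a Sylow 2-subgroup is abelian -/
theorem comm_aux [Finite G] (hH : Hyp G) (P : Sylow 2 G) :
    ∀ k : ℕ, ∀ x ∈ P, x ^ (2 ^ k) = 1 → ∀ y ∈ P, x * y = y * x := by
  intro k
  induction k with
  | zero =>
    intro x _ hx y _
    rw [pow_zero, pow_one] at hx
    rw [hx, one_mul, mul_one]
  | succ k ih =>
    intro x hxP hx y hyP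
    have hxx : (x * x) ^ (2 ^ k) = 1 := by
      rw [← pow_two, ← pow_mul, ← pow_succ']; exact hx
    have h1 := ih (x * x) (P.1.mul_mem hxP hxP) hxx
    have hx2 := is2_of_isPGroup P.isPGroup' hxP
    obtain ⟨T, w, hAT, hwT, hwc, hww⟩ := exists_central_sqrt hH hx2 (P : Subgroup G)
      P.isPGroup' (by
        intro z hz
        rw [Subgroup.mem_centralizer_iff]
        intro v hv
        rw [Set.mem_singleton_iff] at hv
        subst hv
        exact h1 z hz)
    have hxT : x ∈ T := hAT hxP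
    have hyT : y ∈ T := hAT hyP
    have hxw : x * w = w * x := hwc x hxT
    have hyw : y * w = w * y := hwc y hyT
    have heT : x * w⁻¹ ∈ T := T.1.mul_mem hxT (T.1.inv_mem hwT)
    have hxw' : w⁻¹ * x = x * w⁻¹ := by
      calc w⁻¹ * x = w⁻¹ * (x * w) * w⁻¹ := by group
        _ = w⁻¹ * (w * x) * w⁻¹ := by rw [hxw]
        _ = x * w⁻¹ := by group
    have he2 : (x * w⁻¹) * (x * w⁻¹) = 1 := by
      calc (x * w⁻¹) * (x * w⁻¹) = x * (w⁻¹ * x) * w⁻¹ := by group
        _ = x * (x * w⁻¹) * w⁻¹ := by rw [hxw']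
        _ = (x * x) * (w * w)⁻¹ := by group
        _ = 1 := by rw [hww]; group
    obtain ⟨j, hj⟩ := T.isPGroup' ⟨y, hyT⟩
    have hj' : y ^ (2 ^ j) = 1 := by simpa using congrArg Subtype.val hj
    have h2 := invol_central hH T j y hyT hj' (x * w⁻¹) heT he2
    calc x * y = (x * w⁻¹) * (w * y) := by group
      _ = (x * w⁻¹) * (y * w) := by rw [hyw]
      _ = ((x * w⁻¹) * y) * w := by group
      _ = (y * (x * w⁻¹)) * w := by rw [h2]
      _ = y * x := by group

/-- Main theorem: if every 2-element is centralized by a Sylow 2-subgroup, the Sylow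
2-subgroups are abelian. -/
theorem comm_of_hyp [Finite G] (hH : Hyp G) (P : Sylow 2 G) :
    ∀ x ∈ P, ∀ y ∈ P, x * y = y * x := by
  intro x hx y hy
  obtain ⟨k, hk⟩ := P.isPGroup' ⟨x, hx⟩
  have hk' : x ^ (2 ^ k) = 1 := by simpa using congrArg Subtype.val hk
  exact comm_aux hH P k x hx hk' y hy

/-- odd class sizes give the Sylow form of the hypothesis -/
theorem hyp_of_index [Finite G]
    (h : ∀ x : G, (∃ k : ℕ, orderOf x = 2 ^ k) →
      ¬ 2 ∣ (Subgroup.centralizer ({x} : Set G)).index) : Hyp G := by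
  intro x hx
  obtain ⟨P⟩ : Nonempty (Sylow 2 G) := inferInstance
  have hfix := P.isPGroup'.nonempty_fixed_point_of_prime_not_dvd_card
    (G ⧸ Subgroup.centralizer ({x} : Set G)) (h x hx)
  obtain ⟨q, hq⟩ := hfix
  induction q using QuotientGroup.induction_on with
  | H g =>
    have key : ∀ p ∈ P, g⁻¹ * p * g ∈ Subgroup.centralizer ({x} : Set G) := by
      intro p hp
      have h1 := hq ⟨p⁻¹, P.1.inv_mem hp⟩
      have h2 : ((p⁻¹ * g : G) : G ⧸ Subgroup.centralizer ({x} : Set G)) = (g : G ⧸ _) := h1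
      rw [QuotientGroup.eq] at h2
      have e : (p⁻¹ * g)⁻¹ * g = g⁻¹ * p * g := by group
      rw [e] at h2
      exact h2
    refine ⟨g⁻¹ • P, ?_⟩
    intro y hy
    have h1 := mem_smul_iff.mp hy
    have h2 := key _ h1
    have e : g⁻¹ * (g⁻¹⁻¹ * y * g⁻¹) * g = y := by group
    rw [e] at h2
    exact h2

/-- abelian Sylow 2-subgroups give the hypothesis -/
theorem hyp_of_comm [Finite G] (P : Sylow 2 G) (hP : ∀ x ∈ P, ∀ y ∈ P, x * y = y * x) :
    Hyp G := by
  intro x hx
  obtain ⟨k, hk⟩ := hx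
  have hz : IsPGroup 2 (Subgroup.zpowers x) :=
    isPGroup_zpowers x k (by rw [← hk]; exact pow_orderOf_eq_one x)
  obtain ⟨Q, hQ⟩ := hz.exists_le_sylow
  obtain ⟨c, hc⟩ := MulAction.exists_smul_eq G P Q
  refine ⟨Q, ?_⟩
  intro y hy
  rw [Subgroup.mem_centralizer_iff]
  intro v hv
  rw [Set.mem_singleton_iff] at hv
  subst hv
  have hvQ : v ∈ Q := hQ (Subgroup.mem_zpowers v)
  rw [← hc] at hvQ hy
  have h1 := mem_smul_iff.mp hvQ
  have h2 := mem_smul_iff.mp hy
  have h3 := hP _ h1 _ h2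
  calc v * y = c * ((c⁻¹ * v * c) * (c⁻¹ * y * c)) * c⁻¹ := by group
    _ = c * ((c⁻¹ * y * c) * (c⁻¹ * v * c)) * c⁻¹ := by rw [h3]
    _ = y * v := by group

end Cfsg.Agent.Lib.Helper63.TwoCentral
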